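import Cfsg.Agent.S1082
import Cfsg.Agent.S2110
import Cfsg.Agent.S1071
import Cfsg.Agent.H95.StemCover
import Cfsg.Agent.H905.PCover
import Cfsg.Agent.Nodes.RGDTwD4
import Cfsg.Agent.Prune
set_option linter.all false
prune_inst 0x7f00000000000000000000000000000000000000000000000000000000000000000000000000000000000000000000000000000000000000000000000000000000000000000000000000000000000000003fffffffffffffffffffffffffffbeffbdffffffff
open scoped Cfsg.Agent.FastGrp

/-!
# The natural module of `³D₄(q)` (helper392)

`exists_nat` : `³D₄(q)` is a subgroup of the isometry group of `x₀y₀ + x₁y₁ + x₂y₂ + x₃y₃` over the field of `q³` elements.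
-/

set_option autoImplicit false
set_option linter.unusedSectionVars false
set_option linter.style.haveILetI false

namespace Cfsg.Agent.H392.TD

open Cfsg.Lie Cfsg.Agent.ChevalleyStructure Function
open scoped commutatorElement

variable {K : Type*} [Field K] {q : ℕ}

theorem tw_le_group [Fintype K] (hq : IsPrimePow q) (hK : Fintype.card K = q ^ 3) : twistedD4 K q ≤ chevD4.group K := by
  obtain ⟨φ, hφ⟩ := D4Fixed.exists_frob hq hK
  have hx : ∀ r (t : K), D4Cols.xU r t ∈ chevD4.group K := fun r t => by
    rw [D4U.xU_eq]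
    exact Elts.xG_mem_group Nodes.RGDTwD4.hp.inList r t
  exact D4Fixed.twisted_induction hφ (fun t _ => hx _ _) (fun t _ => hx _ _)
    (fun t => mul_mem (mul_mem (hx _ _) (hx _ _)) (hx _ _)) (fun t => mul_mem (mul_mem (hx _ _) (hx _ _)) (hx _ _))

theorem perfect_of_simple {G : Type*} [Group G] (h : IsSimpleGroup G) (hc : ¬ IsMulCommutative G) : commutator G = ⊤ := by
  rcases h.eq_bot_or_eq_top_of_normal (commutator G) inferInstance with h1 | h1
  · exfalso
    apply hc
    refine ⟨⟨fun a b => ?_⟩⟩
    have h2 : ⁅a, b⁆ ∈ commutator G := Subgroup.commutator_mem_commutator (Subgroup.mem_top a) (Subgroup.mem_top b)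
    rw [h1, Subgroup.mem_bot] at h2
    exact commutatorElement_eq_one_iff_mul_comm.1 h2
  · exact h1

/-- lifting an embedding into a central quotient, the multiplier being trivial -/
theorem exists_lift {Y G : Type*} [Group Y] [Group G] (hY : commutator Y = ⊤) (hM : HasCyclicSchurMultiplier Y 1)
    (Ω : Subgroup G) (f : Y →* Ω ⧸ Subgroup.center Ω) (hf : Injective f) : ∃ ψ : Y →* G, Injective ψ ∧ ∀ y, ψ y ∈ Ω := by
  set mk := QuotientGroup.mk' (Subgroup.center Ω) with hmk
  have hmks : Surjective mk := QuotientGroup.mk'_surjective _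
  let H : Subgroup Ω := f.range.comap mk
  let e : Y ≃* f.range := MonoidHom.ofInjective hf
  let π₀ : H →* f.range := (mk.comp H.subtype).codRestrict f.range fun x => x.2
  let π : H →* Y := e.symm.toMonoidHom.comp π₀
  have hπ₀s : Surjective π₀ := by
    rintro ⟨y, hy⟩
    obtain ⟨x, hx⟩ := hmks y
    exact ⟨⟨x, by rw [Subgroup.mem_comap, hx]; exact hy⟩, Subtype.ext hx⟩
  have hπs : Surjective π := e.symm.surjective.comp hπ₀s
  have hπk : π.ker ≤ Subgroup.center H := by
    intro x hx
    have h1 : e.symm (π₀ x) = 1 := hx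
    have h2 : π₀ x = 1 := by rwa [map_eq_one_iff e.symm e.symm.injective] at h1
    have h3 : mk (x : Ω) = 1 := congrArg Subtype.val h2
    rw [hmk, QuotientGroup.mk'_apply, QuotientGroup.eq_one_iff] at h3
    rw [Subgroup.mem_center_iff]
    intro y
    exact Subtype.ext (Subgroup.mem_center_iff.1 h3 y)
  obtain ⟨hP1, hP2⟩ := H905.PCover.commutator_perfect hY hπs hπk
  let π' : commutator H →* Y := π.comp (commutator H).subtype
  have hπ's : Surjective π' := by
    intro y
    have : y ∈ (commutator H).map π := by rw [hP2]; trivial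
    obtain ⟨x, hx, rfl⟩ := this
    exact ⟨⟨x, hx⟩, rfl⟩
  have hπ'k : π'.ker ≤ Subgroup.center (commutator H) := by
    intro x hx
    have h1 : (x : H) ∈ Subgroup.center H := hπk hx
    rw [Subgroup.mem_center_iff]
    intro y
    exact Subtype.ext (Subgroup.mem_center_iff.1 h1 y)
  have hcard := H95.StemCover.card_ker_dvd_cyclic hM hP1 π' hπ's hπ'k
  have hker : π'.ker = ⊥ := Subgroup.card_eq_one.1 (Nat.dvd_one.1 hcard)
  have hinj : Injective π' := (MonoidHom.ker_eq_bot_iff π').1 hker
  let E : commutator H ≃* Y := MulEquiv.ofBijective π' ⟨hinj, hπ's⟩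
  refine ⟨(((Ω.subtype).comp H.subtype).comp (commutator H).subtype).comp E.symm.toMonoidHom, ?_, ?_⟩
  · exact (Subtype.val_injective.comp (Subtype.val_injective.comp Subtype.val_injective)).comp E.symm.injective
  · intro y
    exact (((E.symm y : commutator H) : H) : Ω).2

/-- **The natural module of `³D₄(q)`.** -/
theorem exists_nat [Fintype K] (hq : IsPrimePow q) (hK : Fintype.card K = q ^ 3) :
    ∃ ψ : ↥(twistedD4 K q) →* isometryGroup K (quadFormPlus 4 K), Injective ψ := by
  obtain ⟨e⟩ := S1082.result (F := K)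
  obtain ⟨hs, hc⟩ := S1071.result hq hK
  obtain ⟨ψ, hψ, -⟩ := exists_lift (perfect_of_simple hs hc) (S2110.result hq hK)
    (Omega K (quadFormPlus 4 K)) (e.toMonoidHom.comp (Subgroup.inclusion (tw_le_group hq hK)))
    (e.injective.comp (Subgroup.inclusion_injective _))
  exact ⟨ψ, hψ⟩

end Cfsg.Agent.H392.TD
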