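import Cfsg.Agent.H905.MdH_m3
import Cfsg.Agent.H392.TD.Count_m3
import Mathlib.FieldTheory.KummerExtension
import Cfsg.Agent.H911.AdPSL
import Cfsg.Agent.H920.FormUniq
import Cfsg.Prelude.Def_GeometricClasses
import Cfsg.Prelude.Def_Classical
import Mathlib
import Cfsg.Agent.H392.TD.Nat8
import Cfsg.Agent.H48.DsChev
import Cfsg.Agent.Prune
set_option linter.all false

section
prune_inst 0x7ffcadffabbdaddeffff7feff6decffc3b919fffa4dff94bffe06bff0b9f93820dc72b9d8df012fe1ef6421418a87803fffffeffe86bdc7ffffd5ff45ffbee5ff7ffbd08519688340fbc6ff793f0778e7f3fffffffffffffffffffffffffffbeffbfffffffff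

-- part: H392/TD/Eig
section
prune_inst 0x4200040000010000000008001001c42c0000002000b000008000a0406c00c020d00062034d00010181a004000388000001000200010000000008000000000000401500482180800200080000800000000000000000000000000000000000004000000000
set_option linter.all false
open scoped Cfsg.Agent.FastGrp

-- part: H392/TD/Zero
section
/-!
# `³D₄(q)` in its own characteristic: the case `J = {0}` (helper392)
-/

set_option autoImplicit false
set_option linter.unusedSectionVars false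
set_option linter.style.haveILetI false

namespace Cfsg.Agent.H392.TD

open CoxeterSystem Cfsg.Agent.ChevalleyStructure.CoxeterGeom Cfsg.Agent.Tits.Roots Cfsg.Agent.Tits.Core
  Cfsg.Agent.Tits.Exchange Cfsg.Agent.Nodes.Reps Cfsg.Agent.Nodes.BNOf Cfsg.Agent.Nodes.StabComb
  Cfsg.Agent.Nodes.Bruhat Cfsg.Agent.Nodes.OppDec Cfsg.Agent.Nodes.LeviDec Cfsg.Agent.KFacts.RgdOpp
  Cfsg.Agent.Omega.CR Cfsg.Agent.Omega.FOne.Lift.Sd Cfsg.Agent.H905.Md Cfsg.Agent.H875.Fn
open Cfsg.Lie Cfsg.Agent.ChevalleyStructure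
open Cfsg.Agent.H911.SLTwo (U Lo hh ww)

/-- the words of the rotations -/
def V6 : Fin 6 → List (Fin 2) := ![[], [0, 1], [0, 1, 0, 1], [0, 1, 0, 1, 0, 1], [0, 1, 0, 1, 0, 1, 0, 1],
  [0, 1, 0, 1, 0, 1, 0, 1, 0, 1]]

theorem vtest : ∀ a b : Fin 6, a ≠ b → tst 1 ((V6 a).reverse ++ V6 b) = true := by decide +kernel

theorem etest1 : ∀ a b : Fin 6, a ≠ b → actL (V6 a) (sr 1) ≠ actL (V6 b) (sr 1) := by decide +kernel

theorem etest2 : ∀ a b : Fin 6, actL (V6 a) (sr 1) = -actL (V6 b) (sr 1) → tst 1 ((V6 a).reverse ++ (V6 b ++ [1])) = true := by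
  decide +kernel

section zero

variable {K : Type*} [Field K] [Fintype K] {q : ℕ} {φ : K →+* K} (hφ : ∀ x, φ x = x ^ q)
  (hK : Fintype.card K = q ^ 3)
  {k V : Type*} [Field k] (j : K →+* k) [AddCommGroup V] [Module k V] [FiniteDimensional k V] [Nontrivial V]
  {p : ℕ} [Fact p.Prime] [CharP K p] [CharP k p] {ρ : ↥(twistedD4 K q) →* Module.End k V}
  (hirr : ∀ L : Submodule k V, Ivt ρ (GG cs Nodes.RGDTwD4.isCartan (Nodes.RGDTwD4.T K q) (Nodes.RGDTwD4.X φ q)) L →
    L = ⊥ ∨ L = ⊤)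

include hφ hK hirr

/-- `dim Le {1} ≤ 3` -/
theorem finrank_Le_le (hp : p.Prime)
    (hD : Module.finrank k (D cs Nodes.RGDTwD4.isCartan (Nodes.RGDTwD4.X φ q) ρ) = 1)
    (h1 : 1 ∉ JD φ q ρ) (h12 : Module.finrank k V ≤ 12) :
    Module.finrank k (Le cs Nodes.RGDTwD4.isCartan (Nodes.RGDTwD4.T K q) (Nodes.RGDTwD4.X φ q) ρ {1}) ≤ 3 := by
  have hW : Finite CoxeterMatrix.G₂.Group := finiteG
  have hY : Finite ↥(twistedD4 K q) := inferInstance
  have R := Nodes.RGDTwD4.rgd (K := K) cs hK hφ p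
  have key := dim_ge R hirr (α := Fin 6) (β := Fin 6) (fun a => cs.wordProd (V6 a)) (fun a a' haa => by
    rw [← wordProd_reverse, ← wordProd_append]
    exact notMem_of_tst h1 (vtest a a' haa)) (fun b => cs.wordProd (V6 b)) (fun _ => 1) (fun b b' hbb => by
    rintro (⟨e, -⟩ | ⟨e, e'⟩)
    · rw [rep_wd, rep_wd] at e
      exact etest1 b b' hbb e
    · rw [rep_wd, rep_wd] at e
      have h2 := notMem_of_tst h1 (etest2 b b' e)
      rw [wordProd_append, wordProd_append, wordProd_reverse, wordProd_singleton] at h2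
      exact h2 e')
  rw [hD, Finset.sum_const, Finset.card_univ, Fintype.card_fin, mul_one, smul_eq_mul] at key
  have h2 := finrank_Io R hirr 1
  rw [hD] at h2
  omega

variable {c : V} (hc : c ∈ D cs Nodes.RGDTwD4.isCartan (Nodes.RGDTwD4.X φ q) ρ) (hc0 : c ≠ 0)
  {m : ℕ} (hBc : ∀ s : Kˣ, ρ (hB hφ s) c = (j (s : K) ^ m) • c)

include hc hc0 hBc

/-- `|SS m| ≤ dim Le {1}` -/
theorem card_SS_le_Le (hp : p.Prime) (h1 : 1 ∉ JD φ q ρ) (hm : 1 ≤ m) (hmN : m ≤ q ^ 3 - 1) :
    (SS p m).card ≤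
      Module.finrank k (Le cs Nodes.RGDTwD4.isCartan (Nodes.RGDTwD4.T K q) (Nodes.RGDTwD4.X φ q) ρ {1}) := by
  have hW : Finite CoxeterMatrix.G₂.Group := finiteG
  have hY : Finite ↥(twistedD4 K q) := inferInstance
  have hle := D4Fixed.twisted_le_fix hK hφ
  have R := Nodes.RGDTwD4.rgd (K := K) cs hK hφ p
  set L := Le cs Nodes.RGDTwD4.isCartan (Nodes.RGDTwD4.T K q) (Nodes.RGDTwD4.X φ q) ρ {1} with hL
  have hLth : ∀ g : Matrix.SpecialLinearGroup (Fin 2) K, ∀ v ∈ L, ρ (th hφ g) v ∈ L := by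
    intro g v hv
    refine Ivt_Le R (ρ := ρ) ({1} : Set (Fin 2)) _ ?_ v hv
    have h2 : Nodes.RGDTwD4.X φ q (sr 1) ⊔ Nodes.RGDTwD4.X φ q (-sr 1) ≤
        LJ cs Nodes.RGDTwD4.isCartan (Nodes.RGDTwD4.T K q) (Nodes.RGDTwD4.X φ q) {1} := by
      have h3 : ∀ k : Fin 2, k ∉ ({1} : Set (Fin 2)) → (sr 1 : Fin 2 → ℤ) k = 0 := fun k hk =>
        sr_ne fun e => hk (by rw [e]; rfl)
      refine sup_le (X_le_LJ ⟨isRoot_sr cs _ 1, h3⟩) (X_le_LJ ⟨(isRoot_sr cs _ 1).neg, fun k hk => ?_⟩)
      rw [Pi.neg_apply, h3 k hk, neg_zero]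
    exact h2 (th_mem_sup hφ hle g)
  have hcL : c ∈ L := D_le_Le R _ hc
  let Q : Matrix.SpecialLinearGroup (Fin 2) K →* Module.End k L :=
    { toFun := fun g => (ρ (th hφ g)).restrict (hLth g)
      map_one' := by
        ext v
        rw [LinearMap.coe_restrict_apply, map_one, map_one]
        rfl
      map_mul' := fun g g' => by
        ext v
        rw [LinearMap.coe_restrict_apply, map_mul, rho_mul]
        rfl }
  have hQ : ∀ g (v : L), ((Q g v : L) : V) = ρ (th hφ g) v := fun g v => rfl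
  obtain ⟨φ₀, hφ₀, hne⟩ := exists_pair_D R hirr hc hc0
  have hφUN : ∀ u ∈ UN cs Nodes.RGDTwD4.isCartan (Nodes.RGDTwD4.X φ q), ∀ x, φ₀ (ρ u x) = φ₀ x := fun u hu x =>
    dual_fx_pair R hφ₀ hu x
  have key := sum_le (j := j) (Q := Q) p (α := Unit) (fun _ => ⟨c, hcL⟩) (fun _ => φ₀.comp L.subtype) (fun _ => m)
    (fun _ => by omega) (fun _ => by rw [hK]; exact hmN) (fun _ t x => ?_) (fun _ t => ?_) (fun _ s => ?_)
    (fun _ => hne) (fun a b hab => absurd rfl hab) (fun _ _ => ?_)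
  · rwa [Finset.univ_unique, Finset.sum_singleton] at key
  · change φ₀ (ρ (th hφ (Lo t)) x) = φ₀ x
    refine hφUN _ ?_ _
    exact X_le_UN (isRoot_sr cs _ 1).neg (neg_nonpos.2 (sr_nonneg 1)) (th_Lo hφ hle t)
  · apply Subtype.ext
    exact X_fix R ρ hc 1 (th_U hφ hle t)
  · apply Subtype.ext
    change ρ (th hφ (hh s)) c = _
    rw [th_hh, hBc]
    rfl
  · change φ₀ (ρ (th hφ ww) c) = 0
    by_contra hcon
    have h2 := mem_WJ_of_pair R hirr hφ₀ (rp_simple cs R.nsys 1) hc (by rwa [th_ww] at hcon)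
    exact h1 (simple_mem_WJ Nodes.RGDTwD4.isCartan h2)

/-- **The case `J = {0}`.** -/
theorem case_zero (hp : p.Prime)
    (hD : Module.finrank k (D cs Nodes.RGDTwD4.isCartan (Nodes.RGDTwD4.X φ q) ρ) = 1) (h0 : 0 ∈ JD φ q ρ) (h1 : 1 ∉ JD φ q ρ) (hm : 1 ≤ m)
    (hmN : m ≤ q ^ 3 - 1) (h12 : Module.finrank k V ≤ 12) :
    (∃ t, m = p ^ t) ∧ 8 ≤ Module.finrank k V := by
  obtain ⟨f, hf, hqf⟩ := exists_f (p := p) hK
  have hN : 0 < q ^ 3 - 1 := by omega
  have k1 := card_SS_le_Le hφ hK j hirr hc hc0 hBc hp h1 hm hmN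
  have k2 := finrank_Le_le hφ hK hirr hp hD h1 h12
  have hAc : ∀ (r : Kˣ) (hr : fu φ r = r), ρ (hA hφ r hr) c = (j (r : K) ^ 0) • c := by
    intro r hr
    rw [pow_zero, one_smul, hA_fix hφ hK hp h0 hc]
  have key := cnt_even hφ hK j hirr hc hc0 hBc hAc h1
  rw [zero_mul, add_zero, add_zero, red_eq rfl (by omega) hmN] at key
  have k3 := two_le_card_SS (p := p) (r := m) (by omega)
  have hpr : (SS p m).card.Prime := by
    have h4 : (SS p m).card = 2 ∨ (SS p m).card = 3 := by omega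
    rcases h4 with h4 | h4
    · rw [h4]; exact Nat.prime_two
    · rw [h4]; exact Nat.prime_three
  obtain ⟨t, d, hd0, hdp, e, e'⟩ := eq_of_prime (p := p) (by omega) hpr
  have k4 := card_third (p := p) (f := f) (t := t) hf hd0 hdp
  rw [← hqf, ← e] at k4
  rw [k4, e'] at key
  have hd : d = 1 := by
    by_contra hd
    have hd2 : 2 ≤ d := by omega
    have : (d + 1) ^ 2 ≥ 3 ^ 2 := Nat.pow_le_pow_left (by omega) 2
    omega
  rw [hd] at key e
  refine ⟨⟨t, by rw [e, mul_one]⟩, by omega⟩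

end zero

end Cfsg.Agent.H392.TD
end

-- part: H392/TD/Classify
section
/-!
# `³D₄(q)` in its own characteristic: the character of the torus (helper392)

`classify` : `ρ` simple over an algebraically closed field of characteristic `p`, `2 ≤ dim ≤ 12`; then `J = {0}`,
`dim ≥ 8`, and the torus acts on `V^U` by `hB s ↦ σ s`, `hA r ↦ 1` for an embedding `σ` of the field of `q³` elements.
-/

set_option autoImplicit false
set_option linter.unusedSectionVars false
set_option linter.style.haveILetI false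

namespace Cfsg.Agent.H392.TD

open CoxeterSystem Cfsg.Agent.ChevalleyStructure.CoxeterGeom Cfsg.Agent.Tits.Roots Cfsg.Agent.Tits.Core
  Cfsg.Agent.Tits.Exchange Cfsg.Agent.Nodes.Reps Cfsg.Agent.Nodes.BNOf Cfsg.Agent.Nodes.StabComb
  Cfsg.Agent.Nodes.Bruhat Cfsg.Agent.Nodes.OppDec Cfsg.Agent.Nodes.LeviDec Cfsg.Agent.KFacts.RgdOpp
  Cfsg.Agent.Omega.CR Cfsg.Agent.Omega.FOne.Lift.Sd Cfsg.Agent.H905.Md Cfsg.Agent.H875.Fn
open Cfsg.Lie Cfsg.Agent.ChevalleyStructure

variable {K : Type*} [Field K] [Fintype K] {q : ℕ} {φ : K →+* K} (hφ : ∀ x, φ x = x ^ q)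
  (hK : Fintype.card K = q ^ 3)
  {k V : Type*} [Field k] (j : K →+* k) [AddCommGroup V] [Module k V] [FiniteDimensional k V] [Nontrivial V]
  {p : ℕ} [Fact p.Prime] [CharP K p] [CharP k p] {ρ : ↥(twistedD4 K q) →* Module.End k V}
  (hirr : ∀ L : Submodule k V, Ivt ρ (GG cs Nodes.RGDTwD4.isCartan (Nodes.RGDTwD4.T K q) (Nodes.RGDTwD4.X φ q)) L →
    L = ⊥ ∨ L = ⊤)

include hφ hK hirr in
/-- `J ≠ {0, 1}` -/
theorem not_both (hp : p.Prime)
    (hD : Module.finrank k (D cs Nodes.RGDTwD4.isCartan (Nodes.RGDTwD4.X φ q) ρ) = 1) (h2 : 2 ≤ Module.finrank k V) (h0 : 0 ∈ JD φ q ρ)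
    (h1 : 1 ∈ JD φ q ρ) : False := by
  have hW : Finite CoxeterMatrix.G₂.Group := finiteG
  have hY : Finite ↥(twistedD4 K q) := inferInstance
  have R := Nodes.RGDTwD4.rgd (K := K) cs hK hφ p
  have hJ : ∀ i : Fin 2, i ∈ JD φ q ρ := by
    intro i
    fin_cases i
    · exact h0
    · exact h1
  have hinv : Ivt ρ (GG cs Nodes.RGDTwD4.isCartan (Nodes.RGDTwD4.T K q) (Nodes.RGDTwD4.X φ q))
      (D cs Nodes.RGDTwD4.isCartan (Nodes.RGDTwD4.X φ q) ρ) := by
    have h3 := LJ_D R hirr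
    refine Ivt.mono ?_ h3
    unfold GG
    refine sup_le T_le_LJ (RGD.Sup_le fun x hx => ?_)
    exact X_le_LJ ⟨hx, fun i hi => absurd (hJ i) hi⟩
  rcases hirr _ hinv with h | h
  · rw [h, finrank_bot] at hD
    omega
  · rw [h, finrank_top] at hD
    omega

section chi

variable {c : V} (hc : c ∈ D cs Nodes.RGDTwD4.isCartan (Nodes.RGDTwD4.X φ q) ρ) (hc0 : c ≠ 0) {χ : ↥(twistedD4 K q) → k}
  (hχ : ∀ t ∈ Nodes.RGDTwD4.T K q, ρ t c = χ t • c)

include hc0 hχ in
theorem chi_mul {s t : ↥(twistedD4 K q)} (hs : s ∈ Nodes.RGDTwD4.T K q) (ht : t ∈ Nodes.RGDTwD4.T K q) :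
    χ (s * t) = χ s * χ t := by
  have h1 := hχ _ (mul_mem hs ht)
  rw [rho_mul, hχ t ht, map_smul, hχ s hs, smul_smul, mul_comm] at h1
  exact (smul_left_injective k hc0 h1).symm

include hc0 hχ in
theorem chi_one : χ 1 = 1 := by
  have h1 := hχ 1 (one_mem _)
  rw [map_one, Module.End.one_apply] at h1
  have h2 : (1 : k) • c = χ 1 • c := by rw [one_smul]; exact h1
  exact (smul_left_injective k hc0 h2).symm

/-- the fixed units -/
def FU (φ : K →+* K) : Subgroup Kˣ := MonoidHom.eqLocus (fu φ) (MonoidHom.id Kˣ)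

include hK hc0 hχ in
/-- the powers for the short node -/
theorem exists_m (hφ : ∀ x, φ x = x ^ q) : ∃ m, 1 ≤ m ∧ m ≤ q ^ 3 - 1 ∧
    ∀ s : Kˣ, χ (hB hφ s) = j (s : K) ^ m := by
  have hone : hB hφ 1 = 1 := by
    have := hB_mul hφ 1 1
    rw [one_mul] at this
    exact mul_eq_left.1 this
  let f : Kˣ →* k := 
    { toFun := fun s => χ (hB hφ s)
      map_one' := by rw [hone, chi_one hc0 hχ]
      map_mul' := fun a b => by rw [← hB_mul, chi_mul hc0 hχ (hB_mem hφ a) (hB_mem hφ b)] }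
  let j' : Kˣ →* k := (j : K →* k).comp (Units.coeHom K)
  have hj : Function.Injective j' := fun a b hab => Units.ext (j.injective hab)
  obtain ⟨m, h1, h2, h3⟩ := exists_exp f j' hj
  refine ⟨m, h1, ?_, h3⟩
  rwa [D4H1.natCard_units hK] at h2

include hK hc0 hχ in
theorem exists_l (hφ : ∀ x, φ x = x ^ q) : ∃ l, 1 ≤ l ∧ l ≤ q - 1 ∧
    ∀ (r : Kˣ) (hr : fu φ r = r), χ (hA hφ r hr) = j (r : K) ^ l := by
  have hq1 : 1 < q := by
    rcases Nat.lt_or_ge 1 q with h | h
    · exact h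
    · exfalso
      have h2 := Fintype.one_lt_card (α := K)
      have h3 : q ^ 3 ≤ 1 ^ 3 := Nat.pow_le_pow_left h 3
      rw [one_pow] at h3
      omega
  let f : FU φ →* k := 
    { toFun := fun s => χ (hA hφ s.1 s.2)
      map_one' := by
        rw [← chi_one hc0 hχ]
        exact congrArg χ (hA_one hφ)
      map_mul' := fun a b => by
        rw [← chi_mul hc0 hχ (hA_mem hφ a.1 a.2) (hA_mem hφ b.1 b.2)]
        exact congrArg χ (hA_mul hφ a.1 b.1 a.2 b.2).symm }
  let j' : FU φ →* k := ((j : K →* k).comp (Units.coeHom K)).comp (FU φ).subtype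
  have hj : Function.Injective j' := fun a b hab => Subtype.ext (Units.ext (j.injective hab))
  obtain ⟨m, h1, h2, h3⟩ := exists_exp f j' hj
  refine ⟨m, h1, ?_, fun r hr => h3 ⟨r, hr⟩⟩
  have h4 : Nat.card (FU φ) = q - 1 := by
    rw [← D4H1.card_fixed hq1 hK hφ]
    exact Nat.card_congr (Equiv.subtypeEquivRight fun b => by
      change fu φ b = b ↔ _
      exact Units.ext_iff)
  omega

end chi

include hK hirr in
/-- **The classification.** -/
theorem classify (hp : p.Prime) (h2 : 2 ≤ Module.finrank k V) (h12 : Module.finrank k V ≤ 12) {c : V}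
    (hc : c ∈ D cs Nodes.RGDTwD4.isCartan (Nodes.RGDTwD4.X φ q) ρ) (hc0 : c ≠ 0) {χ : ↥(twistedD4 K q) → k}
    (hχ : ∀ t ∈ Nodes.RGDTwD4.T K q, ρ t c = χ t • c) :
    0 ∈ JD φ q ρ ∧ 1 ∉ JD φ q ρ ∧ 8 ≤ Module.finrank k V ∧
      ∃ t : ℕ, (∀ s : Kˣ, χ (hB hφ s) = j (s : K) ^ p ^ t) ∧
        ∀ (r : Kˣ) (hr : fu φ r = r), χ (hA hφ r hr) = 1 := by
  have hW : Finite CoxeterMatrix.G₂.Group := finiteG
  have hY : Finite ↥(twistedD4 K q) := inferInstance
  have R := Nodes.RGDTwD4.rgd (K := K) cs hK hφ p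
  have hD : Module.finrank k (D cs Nodes.RGDTwD4.isCartan (Nodes.RGDTwD4.X φ q) ρ) = 1 := by
    have h1 := H911.fx_eq_span R ρ hirr hc hc0 hχ
    rw [show D cs Nodes.RGDTwD4.isCartan (Nodes.RGDTwD4.X φ q) ρ =
      fx ρ (RGD.Sup (Nodes.RGDTwD4.X φ q) (RGD.Pos cs Nodes.RGDTwD4.isCartan)) from rfl, h1]
    exact finrank_span_singleton hc0
  obtain ⟨m, hm1, hm2, hm⟩ := exists_m hK j hc0 hχ hφ
  obtain ⟨l, hl1, hl2, hl⟩ := exists_l hK j hc0 hχ hφ
  have hBc : ∀ s : Kˣ, ρ (hB hφ s) c = (j (s : K) ^ m) • c := fun s => by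
    rw [hχ _ (hB_mem hφ s), hm]
  have hAc : ∀ (r : Kˣ) (hr : fu φ r = r), ρ (hA hφ r hr) c = (j (r : K) ^ l) • c := fun r hr => by
    rw [hχ _ (hA_mem hφ r hr), hl]
  by_cases h0 : 0 ∈ JD φ q ρ
  · by_cases h1 : 1 ∈ JD φ q ρ
    · exact (not_both hφ hK hirr hp hD h2 h0 h1).elim
    · obtain ⟨⟨t, ht⟩, h8⟩ := case_zero hφ hK j hirr hc hc0 hBc hp hD h0 h1 hm1 hm2 h12
      refine ⟨h0, h1, h8, t, fun s => by rw [hm, ht], fun r hr => ?_⟩
      have h3 := hA_fix hφ hK hp h0 hc r hr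
      rw [hχ _ (hA_mem hφ r hr)] at h3
      have h4 : χ (hA hφ r hr) • c = (1 : k) • c := by rw [h3, one_smul]
      exact smul_left_injective k hc0 h4
  · exfalso
    by_cases h1 : 1 ∈ JD φ q ρ
    · refine case_one hφ hK j hirr hc hc0 (m := 0) (l := l) (fun s => ?_) hAc hp hl1 hl2 h12 h0 rfl
      rw [hB_fix hφ hK hp h1 hc, pow_zero, one_smul]
    · exact case_empty hφ hK j hirr hc hc0 hBc hAc hp hm1 hm2 h12 h0 h1

end Cfsg.Agent.H392.TD
end

-- part: H392/TD/Eig
section
/-!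
# Eigenvectors of the torus of `³D₄(q)` in `V^U`; modules of dimension less than 8 (helper392)
-/

set_option autoImplicit false
set_option linter.unusedSectionVars false
set_option linter.style.haveILetI false

namespace Cfsg.Agent.H392.TD

open CoxeterSystem Cfsg.Agent.ChevalleyStructure.CoxeterGeom Cfsg.Agent.Tits.Roots Cfsg.Agent.Tits.Core
  Cfsg.Agent.Tits.Exchange Cfsg.Agent.Nodes.Reps Cfsg.Agent.Nodes.BNOf Cfsg.Agent.Nodes.StabComb
  Cfsg.Agent.Nodes.Bruhat Cfsg.Agent.Nodes.OppDec Cfsg.Agent.Nodes.LeviDec Cfsg.Agent.KFacts.RgdOpp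
  Cfsg.Agent.Omega.CR Cfsg.Agent.Omega.FOne.Lift.Sd Cfsg.Agent.H905.Md Cfsg.Agent.H875.Fn
open Cfsg.Lie Cfsg.Agent.ChevalleyStructure
open scoped commutatorElement

section eig

/-- an endomorphism of order dividing `|K| - 1` has an eigenvalue in a field containing `K` -/
theorem exists_eigenvalue_of_pow {K k V : Type*} [Field K] [Fintype K] [Field k] (j : K →+* k) [AddCommGroup V]
    [Module k V] [FiniteDimensional k V] [Nontrivial V] (f : Module.End k V) (hf : f ^ (Fintype.card K - 1) = 1) :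
    ∃ a, f.HasEigenvalue a := by
  classical
  set N := Fintype.card K - 1 with hN
  have hN0 : 0 < N := by
    have := Fintype.one_lt_card (α := K)
    omega
  obtain ⟨g, hg⟩ := IsCyclic.exists_generator (α := Kˣ)
  have ho : orderOf g = N := by
    rw [orderOf_eq_card_of_forall_mem_zpowers hg, Nat.card_eq_fintype_card, Fintype.card_units]
  have hprim : IsPrimitiveRoot (j (g : K)) N := by
    rw [← ho]
    exact ((IsPrimitiveRoot.orderOf g).map_of_injective (f := Units.coeHom K) Units.val_injective).map_of_injective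
      j.injective
  have hsp : (Polynomial.X ^ N - Polynomial.C (1 : k)).Splits :=
    X_pow_sub_C_splits_of_isPrimitiveRoot hprim (one_pow N)
  have hdvd : minpoly k f ∣ Polynomial.X ^ N - Polynomial.C (1 : k) := by
    apply minpoly.dvd
    rw [map_sub, map_pow, Polynomial.aeval_X, hf, Polynomial.aeval_C, map_one, sub_self]
  have hne : (Polynomial.X ^ N - Polynomial.C (1 : k)) ≠ 0 := (Polynomial.monic_X_pow_sub_C 1 hN0.ne').ne_zero
  have hsp2 := hsp.of_dvd hne hdvd
  have hdeg : (minpoly k f).degree ≠ 0 := (minpoly.degree_pos (Algebra.IsIntegral.isIntegral f)).ne'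
  obtain ⟨a, ha⟩ := hsp2.exists_eval_eq_zero hdeg
  exact ⟨a, Module.End.hasEigenvalue_of_isRoot ha⟩

end eig

section tor

variable {K : Type*} [Field K] [Fintype K] {q : ℕ} {φ : K →+* K} (hφ : ∀ x, φ x = x ^ q)
  (hK : Fintype.card K = q ^ 3)

theorem hB_one : hB hφ 1 = 1 := by
  have := hB_mul hφ 1 1
  rw [one_mul] at this
  exact mul_eq_left.1 this

theorem hB_pow (s : Kˣ) (n : ℕ) : hB hφ s ^ n = hB hφ (s ^ n) := by
  induction n with
  | zero => rw [pow_zero, pow_zero, hB_one]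
  | succ n ih => rw [pow_succ, ih, hB_mul, pow_succ]

theorem hA_pow (s : Kˣ) (hs : fu φ s = s) (n : ℕ) : hA hφ s hs ^ n = hA hφ (s ^ n) (by rw [map_pow, hs]) := by
  induction n with
  | zero => rw [pow_zero, ← hA_one hφ]; exact hA_congr hφ (pow_zero s).symm _ _
  | succ n ih => rw [pow_succ, ih, hA_mul]; exact hA_congr hφ (pow_succ s n).symm _ _

include hφ hK in
theorem T_pow_card {t : ↥(twistedD4 K q)} (ht : t ∈ Nodes.RGDTwD4.T K q) : t ^ (Fintype.card K) = t := by
  have hq : IsPrimePow q := Cit.HexD4.isPrimePow_of_card hK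
  obtain ⟨a, s, hs, rfl⟩ := exists_tor hφ hq hK ht
  have hc : Commute (hB hφ a) (hA hφ s hs) := T_comm _ (hB_mem hφ a) _ (hA_mem hφ s hs)
  have hu : ∀ u : Kˣ, u ^ Fintype.card K = u := fun u => Units.ext (by
    rw [Units.val_pow_eq_pow_val, FiniteField.pow_card])
  rw [hc.mul_pow, hB_pow, hA_pow, hu]
  congr 1
  exact hA_congr hφ (hu s) _ _

include hφ hK in
theorem T_pow {t : ↥(twistedD4 K q)} (ht : t ∈ Nodes.RGDTwD4.T K q) : t ^ (Fintype.card K - 1) = 1 := by
  have h1 := T_pow_card hφ hK ht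
  have h2 := Fintype.one_lt_card (α := K)
  have h3 : t ^ (Fintype.card K - 1) * t = t := by
    rw [← pow_succ, Nat.sub_add_cancel h2.le, h1]
  exact mul_eq_right.1 h3

variable {k V : Type*} [Field k] (j : K →+* k) [AddCommGroup V] [Module k V] [FiniteDimensional k V] [Nontrivial V]
  {p : ℕ} [Fact p.Prime] [CharP K p] [CharP k p] {ρ : ↥(twistedD4 K q) →* Module.End k V}
  (hirr : ∀ L : Submodule k V, Ivt ρ (GG cs Nodes.RGDTwD4.isCartan (Nodes.RGDTwD4.T K q) (Nodes.RGDTwD4.X φ q)) L →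
    L = ⊥ ∨ L = ⊤)

include hφ hK hirr j in
/-- **The torus has an eigenvector in `V^U`.** -/
theorem exists_eig (hp : p.Prime) : ∃ c ∈ D cs Nodes.RGDTwD4.isCartan (Nodes.RGDTwD4.X φ q) ρ, c ≠ 0 ∧
    ∃ χ : ↥(twistedD4 K q) → k, ∀ t ∈ Nodes.RGDTwD4.T K q, ρ t c = χ t • c := by
  have hW : Finite CoxeterMatrix.G₂.Group := finiteG
  have hY : Finite ↥(twistedD4 K q) := inferInstance
  have R := Nodes.RGDTwD4.rgd (K := K) cs hK hφ p
  have h1 := simp_fx R ρ hirr
  set S := fx ρ (RGD.Sup (Nodes.RGDTwD4.X φ q) (RGD.Pos cs Nodes.RGDTwD4.isCartan)) with hS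
  obtain ⟨c, hc, hc0⟩ := (Submodule.ne_bot_iff _).1 h1.ne
  refine ⟨c, hc, hc0, ?_⟩
  have hsc : ∀ t ∈ Nodes.RGDTwD4.T K q, ∃ a : k, ∀ v ∈ S, ρ t v = a • v := by
    intro t ht
    have hne : Nontrivial S := ⟨⟨⟨c, hc⟩, 0, fun e => hc0 (congrArg Subtype.val e)⟩⟩
    have hpow : ((ρ t).restrict (fun v hv => h1.inv t ht v hv) : Module.End k S) ^ (Fintype.card K - 1) = 1 := by
      have key : ∀ (n : ℕ) (v : S), (((((ρ t).restrict (fun v hv => h1.inv t ht v hv) : Module.End k S) ^ n) v : S) : V) =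
          ρ (t ^ n) v := by
        intro n
        induction n with
        | zero => intro v; rw [pow_zero, pow_zero, map_one]; rfl
        | succ n ih =>
          intro v
          rw [pow_succ, pow_succ, rho_mul, Module.End.mul_apply, ih]
          rfl
      ext v
      rw [key, T_pow hφ hK ht, map_one]
      rfl
    obtain ⟨a, ha⟩ := exists_eigenvalue_of_pow j _ hpow
    obtain ⟨w, hw⟩ := ha.exists_hasEigenvector
    refine ⟨a, ?_⟩
    have h2 : LinearMap.ker (ρ t - a • LinearMap.id) ⊓ S = S := by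
      refine (h1.simple _ inf_le_right ?_).resolve_left ?_
      · intro s hs v hv
        refine ⟨?_, h1.inv s hs v hv.2⟩
        have h3 : ρ t v - a • v = 0 := hv.1
        change ρ t (ρ s v) - a • ρ s v = 0
        rw [← rho_mul, T_comm t ht s hs, rho_mul, sub_eq_zero.1 h3, map_smul, sub_self]
      · intro e
        have h3 : (w : V) ∈ LinearMap.ker (ρ t - a • LinearMap.id) ⊓ S := by
          refine ⟨?_, w.2⟩
          change ρ t (w : V) - a • (w : V) = 0
          have h4 := congrArg Subtype.val (Module.End.mem_eigenspace_iff.1 hw.1)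
          rw [sub_eq_zero]
          exact h4
        rw [e, Submodule.mem_bot] at h3
        exact hw.2 (Subtype.ext h3)
    intro v hv
    rw [← h2] at hv
    exact sub_eq_zero.1 hv.1
  choose! χ hχ using hsc
  exact ⟨χ, fun t ht => hχ t ht c hc⟩

end tor

/-! ### submodules and quotients -/

section sub

variable {Y k V : Type*} [Group Y] [Field k] [AddCommGroup V] [Module k V] (ρ : Y →* Module.End k V)
  (L : Submodule k V) (hL : ∀ g, ∀ v ∈ L, ρ g v ∈ L)

/-- the restriction -/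
def resRep : Y →* Module.End k L where
  toFun g := (ρ g).restrict (hL g)
  map_one' := by
    ext v
    rw [LinearMap.coe_restrict_apply, map_one]
    rfl
  map_mul' g g' := by
    ext v
    rw [LinearMap.coe_restrict_apply, rho_mul]
    rfl

/-- the quotient -/
def quoRep : Y →* Module.End k (V ⧸ L) where
  toFun g := L.mapQ L (ρ g) (hL g)
  map_one' := by
    ext v
    change Submodule.Quotient.mk (ρ 1 v) = Submodule.Quotient.mk v
    rw [map_one]
    rfl
  map_mul' g g' := by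
    ext v
    change Submodule.Quotient.mk (ρ (g * g') v) = Submodule.Quotient.mk (ρ g (ρ g' v))
    rw [map_mul]
    rfl

theorem quoRep_mk (g : Y) (v : V) : quoRep ρ L hL g (Submodule.Quotient.mk v) = Submodule.Quotient.mk (ρ g v) := rfl

theorem eq_one_of_comm (hY : commutator Y = ⊤) (h : ∀ g g', ρ g * ρ g' = ρ g' * ρ g) (g : Y) : ρ g = 1 := by
  have h1 : commutator Y ≤ ρ.ker := by
    rw [commutator_def, Subgroup.commutator_le]
    intro a _ b _
    rw [MonoidHom.mem_ker, commutatorElement_def, map_mul, map_mul, map_mul, h a b]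
    have e1 : ρ a * ρ a⁻¹ = 1 := by rw [← map_mul, mul_inv_cancel, map_one]
    have e2 : ρ b * ρ b⁻¹ = 1 := by rw [← map_mul, mul_inv_cancel, map_one]
    rw [mul_assoc (ρ b), e1, mul_one, e2]
  exact h1 (by rw [hY]; trivial)

/-- a perfect group acting trivially on `L` and `V / L` acts trivially -/
theorem triv_ext (hY : commutator Y = ⊤) (h1 : ∀ g, resRep ρ L hL g = 1) (h2 : ∀ g, quoRep ρ L hL g = 1) (g : Y) :
    ρ g = 1 := by
  have k1 : ∀ g, ∀ v ∈ L, ρ g v = v := fun g v hv => by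
    have := congrArg Subtype.val (LinearMap.congr_fun (h1 g) ⟨v, hv⟩)
    exact this
  have k2 : ∀ g v, ρ g v - v ∈ L := fun g v => by
    have := LinearMap.congr_fun (h2 g) (Submodule.Quotient.mk v)
    rw [quoRep_mk] at this
    exact (Submodule.Quotient.eq L).1 this
  refine eq_one_of_comm ρ hY (fun a b => ?_) g
  have key : ∀ a b v, ρ a (ρ b v) = ρ a v + ρ b v - v := by
    intro a b v
    have h3 := k1 a _ (k2 b v)
    rw [map_sub] at h3
    rw [sub_eq_iff_eq_add] at h3
    rw [h3]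
    abel
  ext v
  rw [Module.End.mul_apply, Module.End.mul_apply, key, key]
  abel

end sub

/-! ### dimension less than 8 -/

section eight

universe w

variable {K : Type*} [Field K] [Fintype K] {q : ℕ} {φ : K →+* K} (hφ : ∀ x, φ x = x ^ q)
  (hK : Fintype.card K = q ^ 3) {k : Type*} [Field k] (j : K →+* k) {p : ℕ} [Fact p.Prime] [CharP K p] [CharP k p]

include hK hφ in
theorem GG_top : GG cs Nodes.RGDTwD4.isCartan (Nodes.RGDTwD4.T K q) (Nodes.RGDTwD4.X φ q) = ⊤ := by
  rw [eq_top_iff, ← Nodes.RGDTwD4.G1_eq_top (K := K) cs hK hφ]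
  exact le_sup_right

theorem finrank_of_triv {V : Type w} [AddCommGroup V] [Module k V] [FiniteDimensional k V]
    (hY : commutator ↥(twistedD4 K q) = ⊤)
    (ρ : ↥(twistedD4 K q) →* Module.End k V) (h : ∃ g, ρ g ≠ 1) : 2 ≤ Module.finrank k V := by
  obtain ⟨g, hg⟩ := h
  by_contra hlt
  have h01 : Module.finrank k V = 0 ∨ Module.finrank k V = 1 := by omega
  rcases h01 with h0 | h1
  · apply hg
    have := Module.finrank_zero_iff.1 h0
    ext v
    exact Subsingleton.elim _ _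
  · apply hg
    refine eq_one_of_comm ρ hY (fun a b => ?_) g
    have hs : ∀ f : Module.End k V, ∃ c : k, ∀ v, f v = c • v := by
      intro f
      obtain ⟨v₀, hv₀, hall⟩ := finrank_eq_one_iff'.1 h1
      obtain ⟨c, hc⟩ := hall (f v₀)
      refine ⟨c, fun v => ?_⟩
      obtain ⟨d, rfl⟩ := hall v
      rw [map_smul, ← hc, smul_smul, smul_smul, mul_comm]
    obtain ⟨c, hc⟩ := hs (ρ a)
    obtain ⟨d, hd⟩ := hs (ρ b)
    ext v
    rw [Module.End.mul_apply, Module.End.mul_apply, hc, hd, hd, hc, smul_smul, smul_smul, mul_comm]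

include hφ hK j in
/-- **Every nontrivial module has dimension at least 8.** -/
theorem eight_le (hp : p.Prime) (hY : commutator ↥(twistedD4 K q) = ⊤) (n : ℕ) : ∀ (V : Type w) [AddCommGroup V] [Module k V] [FiniteDimensional k V]
    (ρ : ↥(twistedD4 K q) →* Module.End k V), Module.finrank k V = n → (∃ g, ρ g ≠ 1) → 8 ≤ n := by
  induction n using Nat.strong_induction_on with
  | _ n ih =>
    intro V _ _ _ ρ hn hne
    have h2 := finrank_of_triv hY ρ hne
    by_cases h12 : n ≤ 12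
    · by_cases hirr : ∀ L : Submodule k V, Ivt ρ (GG cs Nodes.RGDTwD4.isCartan (Nodes.RGDTwD4.T K q) (Nodes.RGDTwD4.X φ q)) L →
          L = ⊥ ∨ L = ⊤
      · have hnt : Nontrivial V := Module.nontrivial_of_finrank_pos (R := k) (by omega)
        obtain ⟨c, hc, hc0, χ, hχ⟩ := exists_eig hφ hK j hirr hp
        have := (classify hφ hK j hirr hp h2 (by omega) hc hc0 hχ).2.2.1
        omega
      · push Not at hirr
        obtain ⟨L, hL, hL0, hL1⟩ := hirr
        have hL' : ∀ g, ∀ v ∈ L, ρ g v ∈ L := fun g v hv => hL g (by rw [GG_top hφ hK]; trivial) v hv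
        have h3 := Submodule.finrank_quotient_add_finrank L
        have h4 : 0 < Module.finrank k L := Nat.pos_of_ne_zero fun h => hL0 (Submodule.finrank_eq_zero.1 h)
        have h5 : 0 < Module.finrank k (V ⧸ L) := by
          refine Nat.pos_of_ne_zero fun h => hL1 ?_
          apply Submodule.eq_top_of_finrank_eq
          omega
        by_cases h6 : ∃ g, resRep ρ L hL' g ≠ 1
        · have := ih _ (by omega) L (resRep ρ L hL') rfl h6
          omega
        · by_cases h7 : ∃ g, quoRep ρ L hL' g ≠ 1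
          · have := ih _ (by omega) (V ⧸ L) (quoRep ρ L hL') rfl h7
            omega
          · push Not at h6 h7
            obtain ⟨g, hg⟩ := hne
            exact absurd (triv_ext ρ L hL' hY h6 h7 g) hg
    · omega

include hφ hK j in
/-- a nontrivial module of dimension 8 is simple -/
theorem irr_of_eight (hp : p.Prime) (hY : commutator ↥(twistedD4 K q) = ⊤) {V : Type w} [AddCommGroup V] [Module k V] [FiniteDimensional k V]
    (ρ : ↥(twistedD4 K q) →* Module.End k V) (hn : Module.finrank k V = 8) (hne : ∃ g, ρ g ≠ 1) (L : Submodule k V)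
    (hL : Ivt ρ (GG cs Nodes.RGDTwD4.isCartan (Nodes.RGDTwD4.T K q) (Nodes.RGDTwD4.X φ q)) L) : L = ⊥ ∨ L = ⊤ := by
  by_contra hcon
  rw [not_or] at hcon
  obtain ⟨hL0, hL1⟩ := hcon
  have hL' : ∀ g, ∀ v ∈ L, ρ g v ∈ L := fun g v hv => hL g (by rw [GG_top hφ hK]; trivial) v hv
  have h3 := Submodule.finrank_quotient_add_finrank L
  have h4 : 0 < Module.finrank k L := Nat.pos_of_ne_zero fun h => hL0 (Submodule.finrank_eq_zero.1 h)
  have h5 : 0 < Module.finrank k (V ⧸ L) := by
    refine Nat.pos_of_ne_zero fun h => hL1 ?_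
    apply Submodule.eq_top_of_finrank_eq
    omega
  by_cases h6 : ∃ g, resRep ρ L hL' g ≠ 1
  · have := eight_le hφ hK j hp hY _ L (resRep ρ L hL') rfl h6
    omega
  · by_cases h7 : ∃ g, quoRep ρ L hL' g ≠ 1
    · have := eight_le hφ hK j hp hY _ (V ⧸ L) (quoRep ρ L hL') rfl h7
      omega
    · push Not at h6 h7
      obtain ⟨g, hg⟩ := hne
      exact hg (triv_ext ρ L hL' hY h6 h7 g)

end eight

end Cfsg.Agent.H392.TD
end

private theorem dce_ff09a77ced6e : _root_.True := by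
  try have : _root_.True := by simp only [_root_.Cfsg.Agent.H392.TD.resRep.congr_simp]
  try have : _root_.True := by simp only [_root_.Cfsg.Agent.Nodes.Bruhat.GG.congr_simp]
  try have : _root_.True := by simp only [_root_.Cfsg.Agent.H392.TD.quoRep.congr_simp]
  exact _root_.True.intro
end

-- part: H911/AdForm
section
prune_inst 0x310005442522100000010002120000002000042000000000a00000040001c0208d4220000a0000001a0090013005000000000000420000000a003000000200000000420083480000200086000080000000000000000000000000000000000000000000000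
set_option linter.all false
open scoped Cfsg.Agent.FastGrp

/-!
# The quadratic form of the adjoint module (helper911)

`e2 X = tr (adjugate X)`, the second coefficient of the characteristic polynomial.
-/

set_option autoImplicit false
set_option linter.unusedSectionVars false
set_option linter.unusedVariables false

namespace Cfsg.Agent.H911.Ad.Mo

open Matrix

variable {k : Type*} [Field k] {E : Type*} [Field E] (σ : E →+* k)

/-- the second coefficient of the characteristic polynomial -/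
def e2 (X : Matrix (Fin 3) (Fin 3) k) : k := X.adjugate.trace

theorem e2_eq (X : Matrix (Fin 3) (Fin 3) k) : e2 X = X 0 0 * X 1 1 + X 0 0 * X 2 2 + X 1 1 * X 2 2 - X 0 1 * X 1 0 -
    X 0 2 * X 2 0 - X 1 2 * X 2 1 := by
  unfold e2
  rw [Matrix.adjugate_fin_three, Matrix.trace_fin_three]
  simp only [_root_.Fin.isValue, _root_.Matrix.of_apply, _root_.Matrix.cons_val', _root_.Matrix.cons_val_zero, _root_.Matrix.cons_val_fin_one, _root_.Matrix.cons_val_one, _root_.Matrix.cons_val]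
  ring

theorem e2_conj (g : _root_.Matrix.SpecialLinearGroup (Fin 3) E) (X : Matrix (Fin 3) (Fin 3) k) :
    e2 (mp σ g * X * mp σ g⁻¹) = e2 X := by
  unfold e2
  rw [Matrix.adjugate_mul_distrib, Matrix.adjugate_mul_distrib, Matrix.trace_mul_comm, Matrix.mul_assoc,
    ← Matrix.adjugate_mul_distrib, mp_inv_mul, Matrix.adjugate_one, Matrix.mul_one]

theorem e2_smul (a : k) (X : Matrix (Fin 3) (Fin 3) k) : e2 (a • X) = a ^ 2 * e2 X := by
  rw [e2_eq, e2_eq]
  simp only [Matrix.smul_apply, smul_eq_mul]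
  ring

theorem e2_add (X Y : Matrix (Fin 3) (Fin 3) k) :
    e2 (X + Y) = e2 X + e2 Y + (X.trace * Y.trace - (X * Y).trace) := by
  rw [e2_eq, e2_eq, e2_eq, Matrix.trace_fin_three, Matrix.trace_fin_three, Matrix.trace_fin_three]
  simp only [Matrix.add_apply, Matrix.mul_apply, Fin.sum_univ_three]
  ring

theorem e2_shift {X Y : S k} (a : k) (h : X.1 = Y.1 + a • (1 : Matrix (Fin 3) (Fin 3) k)) : e2 X.1 = e2 Y.1 := by
  have h1 := X.2
  have h2 := Y.2
  rw [mem_S] at h1 h2
  have h3 : a * 3 = 0 := by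
    rw [h, Matrix.trace_add, h2, zero_add, Matrix.trace_smul, Matrix.trace_one, Fintype.card_fin, smul_eq_mul] at h1
    exact_mod_cast h1
  rw [h, e2_add, h2, zero_mul, e2_smul, Matrix.mul_smul, Matrix.mul_one, Matrix.trace_smul, h2]
  have h4 : e2 (1 : Matrix (Fin 3) (Fin 3) k) = 3 := by
    rw [e2_eq]
    simp only [_root_.Matrix.one_apply_eq, _root_.mul_one, _root_.Fin.isValue, _root_.ne_eq, _root_.zero_ne_one, _root_.not_false_eq_true, _root_.Matrix.one_apply_ne, _root_.one_ne_zero, _root_.MulZeroClass.mul_zero, _root_.sub_zero, _root_.Fin.reduceEq]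
    norm_num
  rw [h4, smul_zero]
  linear_combination a * h3

/-- the quadratic form on the adjoint module -/
noncomputable def qM (v : M k) : k := e2 (Classical.choose (mk_surj v)).1

theorem qM_mk (X : S k) : qM (mk X) = e2 X.1 := by
  unfold qM
  have h1 := Classical.choose_spec (mk_surj (mk X))
  rw [← sub_eq_zero, ← map_sub, mk_eq_zero] at h1
  obtain ⟨a, ha⟩ := h1
  refine e2_shift a ?_
  rw [ha]
  change _ = X.1 + ((Classical.choose (mk_surj (mk X))).1 - X.1)
  rw [add_sub_cancel]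

theorem qM_ad (g : _root_.Matrix.SpecialLinearGroup (Fin 3) E) (v : M k) : qM (ad σ g v) = qM v := by
  obtain ⟨X, rfl⟩ := mk_surj v
  rw [ad_mk, qM_mk, qM_mk, adS_val, e2_conj]

theorem qM_smul (a : k) (v : M k) : qM (a • v) = a ^ 2 * qM v := by
  obtain ⟨X, rfl⟩ := mk_surj v
  rw [← map_smul, qM_mk, qM_mk]
  exact e2_smul a X.1

theorem polar_qM (X Y : S k) : QuadraticMap.polar qM (mk X) (mk Y) = -(X.1 * Y.1).trace := by
  unfold QuadraticMap.polar
  rw [← map_add, qM_mk, qM_mk, qM_mk]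
  change e2 (X.1 + Y.1) - e2 X.1 - e2 Y.1 = _
  rw [e2_add, mem_S.1 X.2]
  ring

theorem nondeg {X : S k} (hX : mk X ≠ 0) : ∃ Y : S k, (X.1 * Y.1).trace ≠ 0 := by
  by_contra hcon
  push Not at hcon
  apply hX
  rw [mk_eq_zero]
  have h1 : ∀ {i j : Fin 3}, i ≠ j → X.1 j i = 0 := by
    intro i j hij
    have h2 := hcon (e k hij)
    change (X.1 * Matrix.single i j 1).trace = 0 at h2
    rw [Matrix.trace_mul_comm, Matrix.trace_single_mul, one_smul] at h2
    exact h2
  have h3 : ∀ i j : Fin 3, X.1 j j = X.1 i i := by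
    intro i j
    have h2 := hcon (d k i j)
    change (X.1 * (Matrix.single j j 1 - Matrix.single i i 1)).trace = 0 at h2
    rw [Matrix.mul_sub, Matrix.trace_sub, Matrix.trace_mul_comm, Matrix.trace_mul_comm X.1, Matrix.trace_single_mul,
      Matrix.trace_single_mul, one_smul, one_smul] at h2
    exact sub_eq_zero.1 h2
  refine ⟨X.1 0 0, ?_⟩
  ext i j
  by_cases hij : i = j
  · subst hij
    rw [Matrix.smul_apply, Matrix.one_apply_eq, smul_eq_mul, mul_one, h3]
  · rw [Matrix.smul_apply, Matrix.one_apply_ne hij, smul_zero, h1 (Ne.symm hij)]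

/-- the totally singular subspace -/
def TT (ω : k) (hω : ω ^ 2 + ω + 1 = 0) : (Fin 4 → k) →ₗ[k] S k where
  toFun a := ⟨!![a 3, a 0, a 1; 0, ω * a 3, a 2; 0, 0, ω ^ 2 * a 3], by
    rw [mem_S, Matrix.trace_fin_three]
    simp only [_root_.Fin.isValue, _root_.Matrix.of_apply, _root_.Matrix.cons_val', _root_.Matrix.cons_val_zero, _root_.Matrix.cons_val_fin_one, _root_.Matrix.cons_val_one, _root_.Matrix.cons_val]
    linear_combination (a 3) * hω⟩
  map_add' a b := by
    apply Subtype.ext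
    change !![_, _, _; _, _, _; _, _, _] = !![_, _, _; _, _, _; _, _, _] + !![_, _, _; _, _, _; _, _, _]
    ext i j
    (revert i j; simp only [_root_.Fin.forall_fin_succ, Fin.isValue, _root_.Pi.add_apply, _root_.Matrix.of_apply, _root_.Matrix.cons_val', _root_.Matrix.cons_val_fin_one, _root_.Matrix.add_apply, _root_.Matrix.cons_val_zero, _root_.Matrix.cons_val_succ, _root_.forall_const, _root_.and_self, _root_.left_eq_add, _root_.and_true, _root_.true_and, _root_.add_zero]) <;> (repeat' with_reducible apply And.intro) <;> ring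
  map_smul' c a := by
    apply Subtype.ext
    change !![_, _, _; _, _, _; _, _, _] = c • !![_, _, _; _, _, _; _, _, _]
    ext i j
    (revert i j; simp only [_root_.Fin.forall_fin_succ, Fin.isValue, _root_.Pi.smul_apply, _root_.smul_eq_mul, _root_.Matrix.of_apply, _root_.Matrix.cons_val', _root_.Matrix.cons_val_fin_one, _root_.Matrix.smul_apply, _root_.Matrix.cons_val_zero, _root_.Matrix.cons_val_succ, _root_.forall_const, _root_.and_self, _root_.MulZeroClass.mul_zero, _root_.and_true, _root_.true_and]) <;> (repeat' with_reducible apply And.intro) <;> ring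

theorem TT_val (ω : k) (hω : ω ^ 2 + ω + 1 = 0) (a : Fin 4 → k) :
    (TT ω hω a).1 = !![a 3, a 0, a 1; 0, ω * a 3, a 2; 0, 0, ω ^ 2 * a 3] := rfl

theorem e2_TT (ω : k) (hω : ω ^ 2 + ω + 1 = 0) (a : Fin 4 → k) : e2 (TT ω hω a).1 = 0 := by
  rw [TT_val, e2_eq]
  simp only [_root_.Fin.isValue, _root_.Matrix.of_apply, _root_.Matrix.cons_val', _root_.Matrix.cons_val_zero, _root_.Matrix.cons_val_fin_one, _root_.Matrix.cons_val_one, _root_.Matrix.cons_val, _root_.MulZeroClass.mul_zero, _root_.sub_zero]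
  linear_combination (a 3) ^ 2 * ω * hω

theorem TT_inj (h3 : (3 : k) ≠ 0) (ω : k) (hω : ω ^ 2 + ω + 1 = 0) {a : Fin 4 → k} (h : mk (TT ω hω a) = 0) : a = 0 := by
  obtain ⟨b, hb⟩ := mk_eq_zero.1 h
  rw [TT_val] at hb
  have h00 := congrFun (congrFun hb 0) 0
  have h11 := congrFun (congrFun hb 1) 1
  have h01 := congrFun (congrFun hb 0) 1
  have h02 := congrFun (congrFun hb 0) 2
  have h12 := congrFun (congrFun hb 1) 2
  simp at h00 h11 h01 h02 h12
  have hω1 : ω - 1 ≠ 0 := by
    intro h0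
    apply h3
    have h1 : ω = 1 := by linear_combination h0
    rw [h1] at hω
    linear_combination hω
  have ha3 : a 3 = 0 := by
    have h4 : (ω - 1) * a 3 = 0 := by linear_combination h00 - h11
    exact (mul_eq_zero.1 h4).resolve_left hω1
  funext i
  fin_cases i
  · exact h01.symm
  · exact h02.symm
  · exact h12.symm
  · exact ha3

end Cfsg.Agent.H911.Ad.Mo

namespace Cfsg.Agent.H911.Ad

open Matrix
open Cfsg Cfsg.Geo Cfsg.Agent.H915.LD

section model

variable {F : Type*} [Field F] {ι : Type} [Fintype ι] [DecidableEq ι] {P : Subgroup (GL ι F)}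
  {E : Type*} [Field E] {σ : E →+* F} {φ : _root_.Matrix.SpecialLinearGroup (Fin 3) E →* GL ι F} (θ : (ι → F) ≃ₗ[F] Mo.M F)

/-- the quadratic form -/
noncomputable def qf (θ : (ι → F) ≃ₗ[F] Mo.M F) (v : ι → F) : F := Mo.qM (θ v)

theorem polar_qf (u v : ι → F) {X Y : Mo.S F} (hX : Mo.mk X = θ u) (hY : Mo.mk Y = θ v) :
    QuadraticMap.polar (qf θ) u v = -(X.1 * Y.1).trace := by
  have h1 : QuadraticMap.polar (qf θ) u v = QuadraticMap.polar Mo.qM (θ u) (θ v) := by
    unfold QuadraticMap.polar qf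
    rw [map_add]
  rw [h1, ← hX, ← hY, Mo.polar_qM]

theorem qf_nondeg : IsNondegenerateQuadraticForm (qf θ) where
  smul c v := by
    unfold qf
    rw [map_smul, Mo.qM_smul]
  polar_bilinear := by
    constructor
    · intro x y v
      obtain ⟨X, hX⟩ := Mo.mk_surj (θ x)
      obtain ⟨Y, hY⟩ := Mo.mk_surj (θ y)
      obtain ⟨V, hV⟩ := Mo.mk_surj (θ v)
      rw [polar_qf θ x v hX hV, polar_qf θ y v hY hV, polar_qf θ (x + y) v (X := X + Y) (by rw [map_add, map_add, hX, hY]) hV]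
      change -((X.1 + Y.1) * V.1).trace = _
      rw [Matrix.add_mul, Matrix.trace_add]
      ring
    · intro c x v
      obtain ⟨X, hX⟩ := Mo.mk_surj (θ x)
      obtain ⟨V, hV⟩ := Mo.mk_surj (θ v)
      rw [polar_qf θ x v hX hV, polar_qf θ (c • x) v (X := c • X) (by rw [map_smul, map_smul, hX]) hV]
      change -((c • X.1) * V.1).trace = _
      rw [Matrix.smul_mul, Matrix.trace_smul, smul_eq_mul]
      ring
    · intro v x y
      obtain ⟨X, hX⟩ := Mo.mk_surj (θ x)
      obtain ⟨Y, hY⟩ := Mo.mk_surj (θ y)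
      obtain ⟨V, hV⟩ := Mo.mk_surj (θ v)
      rw [polar_qf θ v x hV hX, polar_qf θ v y hV hY, polar_qf θ v (x + y) (Y := X + Y) hV (by rw [map_add, map_add, hX, hY])]
      change -(V.1 * (X.1 + Y.1)).trace = _
      rw [Matrix.mul_add, Matrix.trace_add]
      ring
    · intro c v x
      obtain ⟨X, hX⟩ := Mo.mk_surj (θ x)
      obtain ⟨V, hV⟩ := Mo.mk_surj (θ v)
      rw [polar_qf θ v x hV hX, polar_qf θ v (c • x) (Y := c • X) hV (by rw [map_smul, map_smul, hX])]
      change -(V.1 * (c • X.1)).trace = _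
      rw [Matrix.mul_smul, Matrix.trace_smul, smul_eq_mul]
      ring
  nondegenerate := by
    intro v hv
    obtain ⟨V, hV⟩ := Mo.mk_surj (θ v)
    have hV0 : Mo.mk V ≠ 0 := by
      rw [hV]
      exact fun h0 => hv (θ.map_eq_zero_iff.1 h0)
    obtain ⟨Y, hY⟩ := Mo.nondeg hV0
    have e1 : Mo.mk Y = θ (θ.symm (Mo.mk Y)) := (θ.apply_symm_apply _).symm
    refine ⟨⟨θ.symm (Mo.mk Y), ?_⟩, ⟨θ.symm (Mo.mk Y), ?_⟩⟩
    · rw [polar_qf θ _ _ e1 hV, Matrix.trace_mul_comm]
      exact neg_ne_zero.2 hY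
    · rw [polar_qf θ _ _ hV e1]
      exact neg_ne_zero.2 hY

theorem qf_fix (hφ : φ.range = P) (hθ : ∀ g v, θ ((φ g : Matrix ι ι F) *ᵥ v) = Mo.ad σ g (θ v)) :
    FixesQuadForm (matrixSet P) (qf θ) := by
  rintro s ⟨g, hg, rfl⟩ v
  rw [SetLike.mem_coe, ← hφ] at hg
  obtain ⟨y, rfl⟩ := hg
  change Mo.qM (θ ((φ y : Matrix ι ι F) *ᵥ v)) = Mo.qM (θ v)
  rw [hθ, Mo.qM_ad]

theorem qf_plus (h3 : (3 : F) ≠ 0) {ω : F} (hω : ω ^ 2 + ω + 1 = 0) : IsPlusTypeOn (qf θ) ⊤ := by
  let L : (Fin 4 → F) →ₗ[F] (ι → F) := θ.symm.toLinearMap.comp (Mo.mk.comp (Mo.TT ω hω))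
  have hL : ∀ a, θ (L a) = Mo.mk (Mo.TT ω hω a) := fun a => θ.apply_symm_apply _
  refine ⟨LinearMap.range L, le_top, ?_, ?_⟩
  · rintro _ ⟨a, rfl⟩
    change Mo.qM (θ (L a)) = 0
    rw [hL, Mo.qM_mk, Mo.e2_TT]
  · have hinj : Function.Injective L := by
      rw [injective_iff_map_eq_zero]
      intro a ha
      apply Mo.TT_inj h3 ω hω
      rw [← hL, ha, map_zero]
    rw [LinearMap.finrank_range_of_inj hinj, finrank_top, Module.finrank_fintype_fun_eq_card, Fintype.card_fin,
      LinearEquiv.finrank_eq θ, Mo.finrank_M h3]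

end model

/-! ### uniqueness of the quadratic form -/

section uniq

variable {F : Type*} [Field F] {ι : Type} [Fintype ι] [DecidableEq ι] {P : Subgroup (GL ι F)}

/-- **The invariant quadratic form is unique up to scalars.** -/
theorem quad_unique [Finite F] (hC : Core P) {Q Q' : (ι → F) → F} (hQ : IsNondegenerateQuadraticForm Q)
    (hQP : FixesQuadForm (matrixSet P) Q) (hQ' : IsNondegenerateQuadraticForm Q')
    (hQP' : FixesQuadForm (matrixSet P) Q') : ∃ a : F, a ≠ 0 ∧ ∀ v, Q' v = a * Q v := by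
  have hne := hC.nonempty
  have hfix : ∀ {Q : (ι → F) → F}, FixesQuadForm (matrixSet P) Q → FixesForm (matrixSet P) (QuadraticMap.polar Q) := by
    intro Q hQ s hs u v
    unfold QuadraticMap.polar
    rw [← Matrix.mulVec_add, hQ s hs, hQ s hs, hQ s hs]
  obtain ⟨a, ha⟩ := H920.form_unique hC.absIrred hQ.polar_bilinear hQ.nondegenerate (hfix hQP) hQ'.polar_bilinear
    (hfix hQP')
  have ha0 : a ≠ 0 := by
    intro h0
    obtain ⟨v, hv⟩ := exists_ne (0 : ι → F)
    obtain ⟨⟨x, hx⟩, -⟩ := hQ'.nondegenerate v hv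
    apply hx
    rw [ha, h0, zero_mul]
  refine ⟨a, ha0, fun v => ?_⟩
  have hadd : ∀ u v, Q' (u + v) - a * Q (u + v) = (Q' u - a * Q u) + (Q' v - a * Q v) := by
    intro u v
    have h1 := ha u v
    unfold QuadraticMap.polar at h1
    linear_combination h1
  have hz : Q' 0 - a * Q 0 = 0 := by
    have h1 := hadd 0 0
    rw [add_zero] at h1
    linear_combination -h1
  let L : Submodule F (ι → F) :=
    { carrier := {v | Q' v - a * Q v = 0}
      zero_mem' := hz
      add_mem' := by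
        intro u v hu hv
        change Q' (u + v) - a * Q (u + v) = 0
        change Q' u - a * Q u = 0 at hu
        change Q' v - a * Q v = 0 at hv
        rw [hadd, hu, hv, add_zero]
      smul_mem' := by
        intro c v hv
        change Q' (c • v) - a * Q (c • v) = 0
        change Q' v - a * Q v = 0 at hv
        rw [hQ'.smul, hQ.smul]
        linear_combination c ^ 2 * hv }
  have hL : L = ⊥ ∨ L = ⊤ := by
    refine hC.absIrred.1 L ?_
    rintro s hs _ ⟨v, hv, rfl⟩
    change Q' (Matrix.toLin' s v) - a * Q (Matrix.toLin' s v) = 0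
    rw [Matrix.toLin'_apply, hQP' s hs, hQP s hs]
    exact hv
  rcases hL with hL | hL
  · exfalso
    have hinj : Function.Injective fun v => Q' v - a * Q v := by
      intro u v huv
      have h1 : u - v ∈ L := by
        change Q' (u - v) - a * Q (u - v) = 0
        have h2 := hadd (u - v) v
        rw [sub_add_cancel] at h2
        have h3 : Q' u - a * Q u = Q' v - a * Q v := huv
        linear_combination h3 - h2
      rw [hL, Submodule.mem_bot] at h1
      exact sub_eq_zero.1 h1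
    have h1 := Nat.card_le_card_of_injective _ hinj
    have h2 := hC.two_le
    have h3 : Nat.card (ι → F) = Nat.card F ^ Fintype.card ι := by
      rw [Nat.card_fun, Nat.card_eq_fintype_card (α := ι)]
    have h4 : 1 < Nat.card F := Finite.one_lt_card
    have h5 : Nat.card F ^ 2 ≤ Nat.card F ^ Fintype.card ι := Nat.pow_le_pow_right (by omega) h2
    rw [h3] at h1
    nlinarith only [h1, h4, h5]
  · have h1 : v ∈ L := by rw [hL]; trivial
    have h2 : Q' v - a * Q v = 0 := h1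
    linear_combination h2

theorem plus_of_smul {Q Q' : (ι → F) → F} {a : F} (h : ∀ v, Q' v = a * Q v) {W : Submodule F (ι → F)}
    (hW : IsPlusTypeOn Q W) : IsPlusTypeOn Q' W := by
  obtain ⟨U, h1, h2, h3⟩ := hW
  exact ⟨U, h1, fun w hw => by rw [h, h2 w hw, mul_zero], h3⟩

end uniq

theorem exists_omega {F : Type*} [Field F] [Finite F] (h : Nat.card F % 3 = 1) : ∃ ω : F, ω ^ 2 + ω + 1 = 0 := by
  have := Fintype.ofFinite F
  have h1 : 3 ∣ Nat.card Fˣ := by
    rw [Nat.card_units]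
    omega
  haveI : Fact (Nat.Prime 3) := ⟨by norm_num⟩
  obtain ⟨u, hu⟩ := exists_prime_orderOf_dvd_card' 3 h1
  refine ⟨u, ?_⟩
  have h2 : (u : F) ^ 3 = 1 := by
    rw [← Units.val_pow_eq_pow_val, ← hu, pow_orderOf_eq_one, Units.val_one]
  have h3 : (u : F) - 1 ≠ 0 := by
    intro h0
    have h4 : u = 1 := Units.ext (by rw [Units.val_one]; linear_combination h0)
    rw [h4, orderOf_one] at hu
    omega
  have h5 : ((u : F) - 1) * ((u : F) ^ 2 + u + 1) = 0 := by linear_combination h2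
  exact (mul_eq_zero.1 h5).resolve_left h3

/-! ### the theorem -/

section P

variable {F : Type*} [Field F] [Finite F] {ι : Type} [Fintype ι] [DecidableEq ι] {P : Subgroup (GL ι F)}
  {E : Type*} [Field E] [Finite E] (p : ℕ) [hp : Fact p.Prime] [hFp : CharP F p] [hEp : CharP E p]
include hp hFp hEp

/-- **Self-dual `PSL(3, E)`, `char E = char F = p`, `n ≤ 11`.** -/
theorem sd_psl3 (hC : Core P) (hsd : SD P) (Φ : Soc P ≃* ProjectiveSpecialLinearGroup (Fin 3) E)
    (hn : Fintype.card ι ≤ 11) :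
    Nat.card F = Nat.card E ∧ FixQ P ∧ (p ≠ 3 ∧ Fintype.card ι = 8 ∨ p = 3 ∧ Fintype.card ι = 7) ∧
      (Nat.card F % 3 = 1 → ∀ Q : (ι → F) → F, IsNondegenerateQuadraticForm Q → FixesQuadForm (matrixSet P) Q →
        IsPlusTypeOn Q ⊤) := by
  obtain ⟨σ, φ, θ, hσ, hφ, hθ⟩ := psl3_model p hC hsd Φ hn
  have h1 : Module.finrank F (ι → F) = Fintype.card ι := Module.finrank_fintype_fun_eq_card F
  have h2 := qf_fix θ hφ hθ
  have h3 : ((3 : ℕ) : F) = 0 ↔ p ∣ 3 := CharP.cast_eq_zero_iff F p 3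
  have h4 : p ∣ 3 ↔ p = 3 := Nat.prime_dvd_prime_iff_eq hp.out (by norm_num)
  have h5 : (3 : F) = 0 ↔ p = 3 := by
    rw [← h4, ← h3]
    norm_num
  refine ⟨(Nat.card_congr (Equiv.ofBijective σ hσ)).symm, ⟨qf θ, qf_nondeg θ, h2⟩, ?_, ?_⟩
  · by_cases hp3 : p = 3
    · right
      exact ⟨hp3, by rw [← h1, LinearEquiv.finrank_eq θ, Mo.finrank_M' (h5.2 hp3)]⟩
    · left
      exact ⟨hp3, by rw [← h1, LinearEquiv.finrank_eq θ, Mo.finrank_M (fun h => hp3 (h5.1 h))]⟩
  · intro hF Q hQ hQP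
    obtain ⟨ω, hω⟩ := exists_omega hF
    obtain ⟨a, -, ha⟩ := quad_unique hC (qf_nondeg θ) h2 hQ hQP
    have h30 : (3 : F) ≠ 0 := by
      intro h0
      obtain rfl := h5.1 h0
      have h6 : 3 ∣ Nat.card F := by
        have := Fintype.ofFinite F
        obtain ⟨e, -, he⟩ := FiniteField.card F 3
        rw [Nat.card_eq_fintype_card, he]
        exact dvd_pow_self 3 e.ne_zero
      omega
    exact plus_of_smul ha (qf_plus θ h30 hω)

end P

end Cfsg.Agent.H911.Ad
end

-- part: H392/TD/Main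
section
prune_inst 0x35000504252200000001001002001c46a2000420004b000089000b400681cc0280020620ba10101002869045503c000000000020420000000a003000411a0080000202041040a000000000008080000000000000000000000000000000000000000000000
set_option linter.all false
open scoped Cfsg.Agent.FastGrp

-- part: H392/TD/Quad
section
/-!
# The form `Σ x_i y_i` transported by a linear isomorphism (helper392)
-/

set_option autoImplicit false
set_option linter.unusedSectionVars false

namespace Cfsg.Agent.H392.TD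

open Matrix Cfsg.Geo

variable {m : ℕ} {F : Type*} [Field F] {ι : Type} [Fintype ι] [DecidableEq ι]
  (θ : (Fin m ⊕ Fin m → F) ≃ₗ[F] (ι → F))

/-- the polar form -/
def bp (m : ℕ) (F : Type*) [Field F] (u v : Fin m ⊕ Fin m → F) : F :=
  ∑ i : Fin m, (u (.inl i) * v (.inr i) + v (.inl i) * u (.inr i))

theorem polar_plus (u v : Fin m ⊕ Fin m → F) : QuadraticMap.polar (quadFormPlus m F) u v = bp m F u v := by
  unfold QuadraticMap.polar quadFormPlus bp
  rw [← Finset.sum_sub_distrib, ← Finset.sum_sub_distrib]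
  refine Finset.sum_congr rfl fun i _ => ?_
  rw [Pi.add_apply, Pi.add_apply]
  ring

theorem bp_nondeg {u : Fin m ⊕ Fin m → F} (hu : u ≠ 0) : ∃ v, bp m F u v ≠ 0 := by
  obtain ⟨i, hi⟩ : ∃ i, u i ≠ 0 := by
    by_contra h
    push Not at h
    exact hu (funext h)
  rcases i with i | i
  · refine ⟨Pi.single (Sum.inr i) 1, ?_⟩
    unfold bp
    rw [Finset.sum_eq_single i]
    · simpa using hi
    · intro b _ hb
      have h1 : (Sum.inr b : Fin m ⊕ Fin m) ≠ Sum.inr i := fun h => hb (Sum.inr_injective h)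
      simp [h1]
    · intro h
      exact absurd (Finset.mem_univ i) h
  · refine ⟨Pi.single (Sum.inl i) 1, ?_⟩
    unfold bp
    rw [Finset.sum_eq_single i]
    · simpa using hi
    · intro b _ hb
      have h1 : (Sum.inl b : Fin m ⊕ Fin m) ≠ Sum.inl i := fun h => hb (Sum.inl_injective h)
      simp [h1]
    · intro h
      exact absurd (Finset.mem_univ i) h

theorem bp_comm (u v : Fin m ⊕ Fin m → F) : bp m F u v = bp m F v u := by
  unfold bp
  exact Finset.sum_congr rfl fun i _ => by ring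

theorem bp_add (u u' v : Fin m ⊕ Fin m → F) : bp m F (u + u') v = bp m F u v + bp m F u' v := by
  unfold bp
  rw [← Finset.sum_add_distrib]
  exact Finset.sum_congr rfl fun i _ => by rw [Pi.add_apply, Pi.add_apply]; ring

theorem bp_smul (a : F) (u v : Fin m ⊕ Fin m → F) : bp m F (a • u) v = a * bp m F u v := by
  unfold bp
  rw [Finset.mul_sum]
  exact Finset.sum_congr rfl fun i _ => by rw [Pi.smul_apply, Pi.smul_apply, smul_eq_mul, smul_eq_mul]; ring

/-- the transported form -/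
def qp (v : ι → F) : F := quadFormPlus m F (θ.symm v)

theorem polar_qp (u v : ι → F) : QuadraticMap.polar (qp θ) u v = bp m F (θ.symm u) (θ.symm v) := by
  rw [← polar_plus]
  unfold QuadraticMap.polar qp
  rw [map_add]

theorem qp_nondeg : IsNondegenerateQuadraticForm (qp θ) where
  smul c v := by
    unfold qp quadFormPlus
    rw [map_smul, Finset.mul_sum]
    exact Finset.sum_congr rfl fun i _ => by rw [Pi.smul_apply, Pi.smul_apply, smul_eq_mul, smul_eq_mul]; ring
  polar_bilinear := by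
    constructor
    · intro x y v
      rw [polar_qp, polar_qp, polar_qp, map_add, bp_add]
    · intro c x v
      rw [polar_qp, polar_qp, map_smul, bp_smul]
    · intro v x y
      rw [polar_qp, polar_qp, polar_qp, map_add, bp_comm, bp_add, bp_comm (θ.symm x), bp_comm (θ.symm y)]
    · intro c v x
      rw [polar_qp, polar_qp, map_smul, bp_comm, bp_smul, bp_comm (θ.symm x)]
  nondegenerate := by
    intro v hv
    have hv' : θ.symm v ≠ 0 := fun h => hv ((map_eq_zero_iff _ θ.symm.injective).1 h)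
    obtain ⟨w, hw⟩ := bp_nondeg hv'
    refine ⟨⟨θ w, ?_⟩, ⟨θ w, ?_⟩⟩
    · rw [polar_qp, LinearEquiv.symm_apply_apply, bp_comm]
      exact hw
    · rw [polar_qp, LinearEquiv.symm_apply_apply]
      exact hw

theorem qp_plus : IsPlusTypeOn (qp θ) ⊤ := by
  let L0 : (Fin m → F) →ₗ[F] (Fin m ⊕ Fin m → F) :=
    { toFun := fun a => Sum.elim a 0
      map_add' := fun a b => by
        funext i
        rcases i with i | i
        · rfl
        · exact (add_zero (0 : F)).symm
      map_smul' := fun c a => by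
        funext i
        rcases i with i | i
        · rfl
        · exact (smul_zero c).symm }
  let L : (Fin m → F) →ₗ[F] (ι → F) := θ.toLinearMap.comp L0
  have hL : ∀ a, θ.symm (L a) = Sum.elim a 0 := fun a => θ.symm_apply_apply _
  refine ⟨LinearMap.range L, le_top, ?_, ?_⟩
  · rintro _ ⟨a, rfl⟩
    change quadFormPlus m F (θ.symm (L a)) = 0
    rw [hL]
    unfold quadFormPlus
    exact Finset.sum_eq_zero fun i _ => by
      rw [Sum.elim_inl, Sum.elim_inr]
      exact mul_zero _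
  · have hinj : Function.Injective L := by
      intro a b hab
      have h1 := congrArg θ.symm hab
      rw [hL, hL] at h1
      funext i
      exact congrFun h1 (Sum.inl i)
    rw [LinearMap.finrank_range_of_inj hinj, finrank_top, ← LinearEquiv.finrank_eq θ,
      Module.finrank_fintype_fun_eq_card, Module.finrank_fintype_fun_eq_card, Fintype.card_sum, Fintype.card_fin]
    omega

/-- semilinear transport of an isometry -/
theorem map_isometry {K : Type*} [Field K] (σ : K ≃+* F) {M : Matrix (Fin m ⊕ Fin m) (Fin m ⊕ Fin m) K}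
    (hM : ∀ v, quadFormPlus m K (M *ᵥ v) = quadFormPlus m K v) (v : Fin m ⊕ Fin m → F) :
    quadFormPlus m F (M.map σ *ᵥ v) = quadFormPlus m F v := by
  have hq : ∀ w : Fin m ⊕ Fin m → K, quadFormPlus m F (fun i => σ (w i)) = σ (quadFormPlus m K w) := fun w => by
    unfold quadFormPlus
    rw [map_sum]
    exact Finset.sum_congr rfl fun i _ => (map_mul σ _ _).symm
  obtain ⟨w, rfl⟩ : ∃ w : Fin m ⊕ Fin m → K, (fun i => σ (w i)) = v :=
    ⟨fun i => σ.symm (v i), funext fun i => σ.apply_symm_apply _⟩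
  have h1 : M.map σ *ᵥ (fun i => σ (w i)) = fun i => σ ((M *ᵥ w) i) := by
    funext i
    rw [Matrix.mulVec, Matrix.mulVec, dotProduct, dotProduct, map_sum]
    exact Finset.sum_congr rfl fun l _ => by rw [Matrix.map_apply, map_mul]
  rw [h1, hq, hq, hM]

end Cfsg.Agent.H392.TD
end

-- part: H392/TD/Main
section
/-!
# `³D₄(q)` in its own characteristic, `n ≤ 12` (helper392)

`P` a linear group over the finite field `F` of characteristic `p`, absolutely irreducible, quasisimple modulo scalars,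
over no proper subfield, `P / Z ≅ ³D₄(q)`, `q` a power of `p`, `n ≤ 12`:

* **`d4_small`** : `n = 8`, `|F| = q³`, `P` fixes a nondegenerate quadratic form, every such form is of plus type.
-/

set_option autoImplicit false
set_option linter.unusedSectionVars false
set_option linter.style.haveILetI false

namespace Cfsg.Agent.H392.TD

open Matrix CoxeterSystem Cfsg.Agent.ChevalleyStructure.CoxeterGeom Cfsg.Agent.Tits.Roots Cfsg.Agent.Tits.Core
  Cfsg.Agent.Tits.Exchange Cfsg.Agent.Nodes.Reps Cfsg.Agent.Nodes.BNOf Cfsg.Agent.Nodes.StabComb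
  Cfsg.Agent.Nodes.Bruhat Cfsg.Agent.Nodes.OppDec Cfsg.Agent.Nodes.LeviDec Cfsg.Agent.KFacts.RgdOpp
  Cfsg.Agent.Omega.CR Cfsg.Agent.Omega.FOne.Lift.Sd Cfsg.Agent.H905.Md Cfsg.Agent.H875.Fn Cfsg.Agent.H911 Cfsg.Agent.H911.Ad
open Cfsg.Lie Cfsg.Agent.ChevalleyStructure Cfsg.Geo Cfsg.Agent.H915.LD

theorem exists_embedding (K A : Type*) [Field K] [Finite K] [Field A] [IsAlgClosed A] (p : ℕ) [Fact p.Prime]
    [CharP K p] [CharP A p] : Nonempty (K →+* A) := by
  letI := ZMod.algebra K p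
  letI := ZMod.algebra A p
  have : Algebra.IsAlgebraic (ZMod p) K := inferInstance
  exact ⟨(IsAlgClosed.lift : K →ₐ[ZMod p] A).toRingHom⟩

section P

variable {F : Type*} [Field F] [Finite F] {ι : Type} [Fintype ι] [DecidableEq ι] {P : Subgroup (GL ι F)}
  {K : Type*} [Field K] [Fintype K] {q : ℕ} {φ : K →+* K} (hφ : ∀ x, φ x = x ^ q) (hK : Fintype.card K = q ^ 3)
  {p : ℕ} [Fact p.Prime] [CharP F p] [CharP K p]

include hφ hK in
/-- **The order of the field.** -/
theorem card_field (hC : Core P) (hp : p.Prime) {ψ : ↥(twistedD4 K q) →* GL ι F} (hψ : ψ.range = P)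
    (hn : Fintype.card ι ≤ 12) : Nat.card F = q ^ 3 := by
  have hne := hC.nonempty
  have h2 := hC.two_le
  have hW : Finite CoxeterMatrix.G₂.Group := finiteG
  have hY : Finite ↥(twistedD4 K q) := inferInstance
  have R := Nodes.RGDTwD4.rgd (K := K) cs hK hφ p
  have hG := GG_top (q := q) hφ hK
  obtain ⟨f, hf, hqf⟩ := exists_f (p := p) hK
  have hKp : Fintype.card K = p ^ (f * 3) := by rw [hK, hqf, ← pow_mul]
  -- all elements of `F` satisfy `x ^ q³ = x`
  have htr : ∀ g ∈ P, (g : Matrix ι ι F).trace ^ p ^ (f * 3) = (g : Matrix ι ι F).trace := fun g hg =>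
    trace_pow R hG T_comm hψ hC.absIrred (a := f * 3) (fun t ht => by rw [← hKp]; exact T_pow_card hφ hK ht) hg
  have hF : ∀ x : F, x ^ p ^ (f * 3) = x := pow_eq_of_no_subfield hC.absIrred hC.no_subfield p (f * 3) htr
  have hd1 := card_dvd_of_pow_eq (F := F) (Nat.one_le_pow (f * 3) p hp.pos) hF
  -- the character
  obtain ⟨c, hc, hc0, χ, hχ⟩ := exists_chiF R hG T_comm hψ hC.absIrred
  set A := AlgebraicClosure F with hA
  have hchar : CharP A p := charP_of_injective_algebraMap (algebraMap F A).injective p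
  obtain ⟨j⟩ := exists_embedding K A p
  have hirr := ac_irr R hG T_comm hψ hC.absIrred
  let c' : ι → A := fun i => algebraMap F A (c i)
  have hc' : c' ∈ D cs Nodes.RGDTwD4.isCartan (Nodes.RGDTwD4.X φ q) (lin (acRep ψ)) := by
    intro u hu
    change lin (acRep ψ) u (fun i => algebraMap F A (c i)) = _
    rw [ac_map, hc u hu]
  have hc'0 : c' ≠ 0 := by
    intro h0
    apply hc0
    funext i
    exact (algebraMap F A).injective ((congrFun h0 i).trans (map_zero _).symm)
  have hχ' : ∀ t ∈ Nodes.RGDTwD4.T K q, lin (acRep ψ) t c' = algebraMap F A (χ t) • c' := by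
    intro t ht
    change lin (acRep ψ) t (fun i => algebraMap F A (c i)) = _
    rw [ac_map, hχ t ht]
    funext i
    exact map_mul _ _ _
  have hfr : Module.finrank (AlgebraicClosure F) (ι → AlgebraicClosure F) = Fintype.card ι :=
    Module.finrank_fintype_fun_eq_card _
  obtain ⟨-, -, -, t, ht, -⟩ := classify hφ hK j hirr hp (by rw [hfr]; exact h2) (by rw [hfr]; exact hn) hc' hc'0 hχ'
  -- `K` embeds into `F`
  have hFc : ∀ x : F, x ^ Nat.card F = x := fun x => by
    have := Fintype.ofFinite F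
    rw [Nat.card_eq_fintype_card]
    exact FiniteField.pow_card x
  have hKF : ∀ x : K, x ^ Nat.card F = x := by
    intro x
    by_cases hx : x = 0
    · rw [hx, zero_pow Nat.card_pos.ne']
    · have h3 := ht (Units.mk0 x hx)
      rw [Units.val_mk0] at h3
      have h4 : (j x ^ p ^ t) ^ Nat.card F = j x ^ p ^ t := by
        rw [← h3, ← map_pow, hFc]
      rw [← pow_mul, mul_comm, pow_mul] at h4
      have : ExpChar A p := ExpChar.prime hp
      have h5 : iterateFrobenius A p t (j x ^ Nat.card F) = iterateFrobenius A p t (j x) := h4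
      have h6 := iterateFrobenius_inj A p t h5
      rw [← map_pow] at h6
      exact j.injective h6
  have hd2 := card_dvd_of_pow_eq (F := K) (m := Nat.card F) Nat.card_pos hKF
  have h7 : 1 < Nat.card F := Finite.one_lt_card
  have h8 : 1 < Fintype.card K := Fintype.one_lt_card
  rw [← hKp] at hd1
  rw [Nat.card_eq_fintype_card (α := K)] at hd2
  have h9 := Nat.dvd_antisymm hd1 hd2
  omega

omit [Finite F] in
include hφ hK in
theorem eight_chi {k V : Type*} [Field k] (j : K →+* k) [AddCommGroup V] [Module k V] [FiniteDimensional k V]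
    [CharP k p] (hp : p.Prime) {ρ : ↥(twistedD4 K q) →* Module.End k V}
    (hirr : ∀ L : Submodule k V, Ivt ρ (GG cs Nodes.RGDTwD4.isCartan (Nodes.RGDTwD4.T K q) (Nodes.RGDTwD4.X φ q)) L →
      L = ⊥ ∨ L = ⊤) (h2 : 2 ≤ Module.finrank k V) (h12 : Module.finrank k V ≤ 12)
    {c : V} (hc : c ∈ D cs Nodes.RGDTwD4.isCartan (Nodes.RGDTwD4.X φ q) ρ) (hc0 : c ≠ 0) {χ : ↥(twistedD4 K q) → k}
    (hχ : ∀ t ∈ Nodes.RGDTwD4.T K q, ρ t c = χ t • c) :
    (∀ i, i ∈ JD φ q ρ ↔ i = 0) ∧ ∃ t : ℕ, ∀ (a s : Kˣ) (hs : fu φ s = s), χ (hB hφ a * hA hφ s hs) = j (a : K) ^ p ^ t := by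
  have hnt : Nontrivial V := Module.nontrivial_of_finrank_pos (R := k) (by omega)
  obtain ⟨h0, h1, -, t, ht, ht'⟩ := classify hφ hK j hirr hp h2 h12 hc hc0 hχ
  refine ⟨fun i => ?_, t, fun a s hs => ?_⟩
  · fin_cases i
    · exact ⟨fun _ => rfl, fun _ => h0⟩
    · exact ⟨fun h => absurd h h1, fun h => absurd h (by decide)⟩
  · rw [chi_mul hc0 hχ (hB_mem hφ a) (hA_mem hφ s hs), ht, ht', mul_one]

omit [CharP F p] [CharP K p] [Fact p.Prime] in
theorem nontriv_N [DecidableEq F] (σ : K ≃+* F) {ψ0 : ↥(twistedD4 K q) →* isometryGroup K (quadFormPlus 4 K)}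
    (h0 : Function.Injective ψ0) (hs : Nontrivial ↥(twistedD4 K q)) :
    ∃ g, lin (mrep ((Matrix.GeneralLinearGroup.map (n := Fin 4 ⊕ Fin 4) (σ : K →+* F)).comp
      ((isometryGroup K (quadFormPlus 4 K)).subtype.comp ψ0))) g ≠ 1 := by
  obtain ⟨g, hg⟩ := exists_ne (1 : ↥(twistedD4 K q))
  refine ⟨g, fun h => hg (h0 ?_)⟩
  rw [map_one]
  apply Subtype.ext
  apply Units.ext
  ext i l
  have h1 := congrFun (LinearMap.congr_fun h (Pi.single l 1)) i
  rw [mrep_apply, Matrix.mulVec_single_one] at h1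
  apply σ.injective
  change σ ((((ψ0 g : GL (Fin 4 ⊕ Fin 4) K)) : Matrix _ _ K) i l) = (Pi.single l 1 : Fin 4 ⊕ Fin 4 → F) i at h1
  rw [h1]
  change _ = σ ((1 : Matrix (Fin 4 ⊕ Fin 4) (Fin 4 ⊕ Fin 4) K) i l)
  rw [Matrix.one_apply, Pi.single_apply]
  split_ifs with h2
  · exact (map_one σ).symm
  · exact (map_zero σ).symm

include hφ hK in
/-- **The natural module.** -/
theorem d4_model (hC : Core P) (hp : p.Prime) (hq : IsPrimePow q) {ψ : ↥(twistedD4 K q) →* GL ι F} (hψ : ψ.range = P)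
    (hn : Fintype.card ι ≤ 12) :
    ∃ (σ : K ≃+* F) (ψ0 : ↥(twistedD4 K q) →* isometryGroup K (quadFormPlus 4 K))
      (θ : (Fin 4 ⊕ Fin 4 → F) ≃ₗ[F] (ι → F)),
      ∀ g v, θ ((((ψ0 g : GL (Fin 4 ⊕ Fin 4) K) : Matrix (Fin 4 ⊕ Fin 4) (Fin 4 ⊕ Fin 4) K).map σ) *ᵥ v) =
        (ψ g : Matrix ι ι F) *ᵥ θ v := by
  classical
  have hne := hC.nonempty
  have h2 := hC.two_le
  have hW : Finite CoxeterMatrix.G₂.Group := finiteG
  have hY : Finite ↥(twistedD4 K q) := inferInstance
  have R := Nodes.RGDTwD4.rgd (K := K) cs hK hφ p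
  have hG := GG_top (q := q) hφ hK
  obtain ⟨hs, hcm⟩ := S1071.result hq hK
  have hYp : commutator ↥(twistedD4 K q) = ⊤ := perfect_of_simple hs hcm
  have hcard := card_field hφ hK hC hp hψ hn
  have hFt := Fintype.ofFinite F
  have hcard' : Fintype.card K = Fintype.card F := by rw [hK, ← hcard, Nat.card_eq_fintype_card]
  have τ : K ≃+* F := FiniteField.ringEquivOfCardEq hcard'
  obtain ⟨f, hf, hqf⟩ := exists_f (p := p) hK
  have hKp : Fintype.card K = p ^ (f * 3) := by rw [hK, hqf, ← pow_mul]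
  -- the module `P`
  obtain ⟨c, hc, hc0, χ, hχ⟩ := exists_chiF R hG T_comm hψ hC.absIrred
  have hirr := mrep_irr hψ hC.absIrred hG
  have hfr : Module.finrank F (ι → F) = Fintype.card ι := Module.finrank_fintype_fun_eq_card F
  obtain ⟨hJP, tP, htP⟩ := eight_chi hφ hK (τ : K →+* F) hp hirr (by rw [hfr]; exact h2) (by rw [hfr]; exact hn)
    hc hc0 hχ
  -- the natural module
  obtain ⟨ψ0, hψ0⟩ := exists_nat hq hK
  set N : ↥(twistedD4 K q) →* GL (Fin 4 ⊕ Fin 4) F :=
    (Matrix.GeneralLinearGroup.map (n := Fin 4 ⊕ Fin 4) (τ : K →+* F)).comp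
      ((isometryGroup K (quadFormPlus 4 K)).subtype.comp ψ0) with hN
  have hfrN : Module.finrank F (Fin 4 ⊕ Fin 4 → F) = 8 := by
    rw [Module.finrank_fintype_fun_eq_card]; rfl
  have hirrN := irr_of_eight hφ hK (τ : K →+* F) hp hYp (lin (mrep N)) hfrN
    (nontriv_N τ hψ0 hs.toNontrivial)
  obtain ⟨cN, hcN, hcN0, χN, hχN⟩ := exists_eig hφ hK (τ : K →+* F) hirrN hp
  obtain ⟨-, tN, htN⟩ := eight_chi hφ hK (τ : K →+* F) hp hirrN (by omega) (by omega) hcN hcN0 hχN
  -- the twist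
  have hex : ExpChar F p := ExpChar.prime hp
  set a := tP + (f * 3 - 1) * tN with ha
  let s : F ≃+* F := iterateFrobeniusEquiv F p a
  have hs' : ∀ x, s x = x ^ p ^ a := fun x => iterateFrobeniusEquiv_apply _ _ _ _
  have hirr' := tw_irr s (mrep N) hirrN
  have hc' : sv s cN ∈ D cs Nodes.RGDTwD4.isCartan (Nodes.RGDTwD4.X φ q) (lin (tw s (mrep N))) :=
    (mem_fx_tw s (mrep N)).2 hcN
  have hc'0 : sv s cN ≠ 0 := fun h => hcN0 (sv_inj s (h.trans (sv_zero s).symm))
  have hχ' : ∀ t ∈ Nodes.RGDTwD4.T K q, lin (tw s (mrep N)) t (sv s cN) = s (χN t) • sv s cN := fun t ht => by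
    rw [lin_tw, hχN t ht, sv_smul]
  obtain ⟨hJN, -⟩ := eight_chi hφ hK (τ : K →+* F) hp hirr' (by omega) (by omega) hc' hc'0 hχ'
  have hχe : ∀ t ∈ Nodes.RGDTwD4.T K q, s (χN t) = χ t := by
    intro t ht
    obtain ⟨b, r, hr, rfl⟩ := exists_tor hφ hq hK ht
    rw [htN, htP, hs', ← pow_mul, ← pow_add]
    have e1 : tN + a = tP + f * 3 * tN := by
      obtain ⟨d, hd⟩ : ∃ d, f * 3 = d + 1 := ⟨f * 3 - 1, by omega⟩
      rw [ha, hd, Nat.add_sub_cancel]
      ring
    have h3 : ∀ (y : F) (n : ℕ), y ^ (p ^ (f * 3)) ^ n = y := by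
      intro y n
      rw [← hKp, hcard']
      exact FiniteField.pow_card_pow n _
    rw [e1, pow_add, pow_mul p (f * 3) tN, mul_comm (p ^ tP), pow_mul, h3]
  have hnt1 : Nontrivial (Fin 4 ⊕ Fin 4 → F) := inferInstance
  have hnt2 : Nontrivial (ι → F) := inferInstance
  obtain ⟨θ, hθ⟩ := iso_of_chi_J R (lin (tw s (mrep N))) (lin (mrep ψ)) hirr' hirr hc' hc'0 hc hc0 (χ := χ)
    (fun t ht => by rw [hχ' t ht, hχe t ht]) hχ (fun i => (hJN i).trans (hJP i).symm)
  refine ⟨τ.trans s, ψ0, θ, fun g v => ?_⟩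
  have h3 := hθ g (by rw [hG]; trivial) v
  rw [mrep_apply, lin_apply] at h3
  exact h3

end P

section final

universe u

variable {F : Type u} [Field F] [Finite F] {ι : Type} [Fintype ι] [DecidableEq ι] {P : Subgroup (GL ι F)}
  {K : Type} [Field K] [Fintype K] {q : ℕ}

/-- **`³D₄(q)`, own characteristic, `n ≤ 12`.** -/
theorem d4_small (p : ℕ) [Fact p.Prime] [CharP F p] [CharP K p] (hC : Core P) (hq : IsPrimePow q)
    (hK : Fintype.card K = q ^ 3) (e : Soc P ≃* twistedD4 K q) (hn : Fintype.card ι ≤ 12) :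
    Fintype.card ι = 8 ∧ Nat.card F = q ^ 3 ∧ Nonempty (F ≃+* K) ∧ FixQ P ∧
      ∀ Q : (ι → F) → F, IsNondegenerateQuadraticForm Q → FixesQuadForm (matrixSet P) Q → IsPlusTypeOn Q ⊤ := by
  have hp : p.Prime := Fact.out
  obtain ⟨f⟩ := H48.DsChev.d4_equiv hC hq hK e
  obtain ⟨φ, hφ⟩ := D4Fixed.exists_frob hq hK
  have hψ : (P.subtype.comp f.symm.toMonoidHom).range = P := by
    rw [MonoidHom.range_comp, MonoidHom.range_eq_top.2 f.symm.surjective, ← MonoidHom.range_eq_map,
      Subgroup.range_subtype]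
  obtain ⟨σ, ψ0, θ, hθ⟩ := d4_model hφ hK hC hp hq hψ hn
  have h8 : Fintype.card ι = 8 := by
    have h1 := LinearEquiv.finrank_eq θ
    rw [Module.finrank_fintype_fun_eq_card, Module.finrank_fintype_fun_eq_card, Fintype.card_sum,
      Fintype.card_fin] at h1
    omega
  have hfix : FixesQuadForm (matrixSet P) (qp θ) := by
    rintro s ⟨g, hg, rfl⟩ v
    rw [SetLike.mem_coe, ← hψ] at hg
    obtain ⟨y, rfl⟩ := hg
    unfold qp
    obtain ⟨w, rfl⟩ := θ.surjective v
    have h1 := hθ y w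
    change quadFormPlus 4 F (θ.symm ((((P.subtype.comp f.symm.toMonoidHom) y : GL ι F) : Matrix ι ι F) *ᵥ θ w)) = _
    rw [← h1, LinearEquiv.symm_apply_apply, LinearEquiv.symm_apply_apply]
    exact map_isometry σ (fun v => (ψ0 y).2 v v) w
  refine ⟨h8, card_field hφ hK hC hp hψ hn, ⟨σ.symm⟩, ⟨qp θ, qp_nondeg θ, hfix⟩, fun Q hQ hQP => ?_⟩
  obtain ⟨a, -, ha⟩ := Ad.quad_unique hC (qp_nondeg θ) hfix hQ hQP
  exact Ad.plus_of_smul ha (qp_plus θ)

end final

end Cfsg.Agent.H392.TD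
end
end
end
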